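/-
Self-adjoint square roots of a non-square: the form over the quadratic extension.
-/
import Mathlib.Algebra.QuadraticAlgebra.Basic
import Cfsg.Agent.Lib.Geo.Elusive.OrthTypes
import Cfsg.Agent.Lib.Geo.Elusive.OddPrime

set_option autoImplicit false
set_option maxHeartbeats 800000
set_option linter.unusedSectionVars false
set_option linter.style.haveILetI false

namespace CfsgLib.Geo.OrthFieldExt

open CfsgLib.Classical CfsgLib.Classical.Quad CfsgLib.Geo.OrthMax CfsgLib.Geo.Elusive
open QuadraticMap (polar polarBilin)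
open Module

universe u

variable {F : Type u} [Field F] [Finite F]
variable {V : Type u} [AddCommGroup V] [Module F V] [FiniteDimensional F V]

/-- `J` is self-adjoint for `Q` and squares to `ν`. -/
structure SAJ (Q : QuadraticForm F V) (J : Module.End F V) (ν : F) : Prop where
  adj : ∀ u v, polar Q (J u) v = polar Q u (J v)
  sq : ∀ v, J (J v) = ν • v

/-- The quadratic extension by a square root of `ν`. -/
abbrev Ext (F : Type u) [Field F] (ν : F) : Type u := QuadraticAlgebra F ν 0

/-- The map onto the endomorphisms sending the square root to `J`. -/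
def extHom {Q : QuadraticForm F V} {J : Module.End F V} {ν : F} (h : SAJ Q J ν) : Ext F ν →ₐ[F] Module.End F V :=
  QuadraticAlgebra.lift ⟨J, LinearMap.ext fun v => by
    simp only [Module.End.mul_apply, h.sq, LinearMap.add_apply, LinearMap.smul_apply, Module.End.one_apply,
      zero_smul, add_zero]⟩

theorem extHom_apply {Q : QuadraticForm F V} {J : Module.End F V} {ν : F} (h : SAJ Q J ν) (z : Ext F ν) (v : V) :
    extHom h z v = z.re • v + z.im • J v := rfl

/-- The structure of a vector space over the extension. -/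
@[reducible] def extModule {Q : QuadraticForm F V} {J : Module.End F V} {ν : F} (h : SAJ Q J ν) :
    Module (Ext F ν) V :=
  Module.compHom V (extHom h).toRingHom

theorem fact_ext {ν : F} (hν : ¬ IsSquare ν) : Fact (∀ r : F, r ^ 2 ≠ ν + 0 * r) :=
  ⟨fun r hr => hν ⟨r, by linear_combination -hr⟩⟩

theorem two_ne_zero_ext {ν : F} (h2 : (2 : F) ≠ 0) : (2 : Ext F ν) ≠ 0 := fun h => h2 (by
  have h' := congrArg QuadraticAlgebra.re h
  rwa [← one_add_one_eq_two, QuadraticAlgebra.re_add, QuadraticAlgebra.re_one, one_add_one_eq_two] at h')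

theorem finite_ext (ν : F) : Finite (Ext F ν) := Finite.of_equiv _ (QuadraticAlgebra.equivProd ν 0).symm

/-- What the extension gives: a space over the field with the form lifting `Q`. -/
theorem exists_form {Q : QuadraticForm F V} {J : Module.End F V} {ν : F} (h2 : (2 : F) ≠ 0)
    [Fact (∀ r : F, r ^ 2 ≠ ν + 0 * r)] (h : SAJ Q J ν) (hQ : (polarBilin Q).Nondegenerate) :
    letI := extModule h
    ∃ R : QuadraticForm (Ext F ν) V, (∀ v, R v = ⟨polar Q v (J v) / 2, Q v⟩) ∧
      (∀ u v, polar R u v = ⟨polar Q u (J v), polar Q u v⟩) ∧ (polarBilin R).Nondegenerate := by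
  letI := extModule h
  have hsmul : ∀ (z : Ext F ν) (v : V), z • v = z.re • v + z.im • J v := fun z v => rfl
  have h22 := two_ne_zero_ext (ν := ν) h2
  let β : V → V → Ext F ν := fun u v => ⟨polar Q u (J v) / 2, polar Q u v / 2⟩
  let B : LinearMap.BilinMap (Ext F ν) V (Ext F ν) := LinearMap.mk₂ (Ext F ν) β
    (fun u u' v => by
      refine QuadraticAlgebra.ext ?_ ?_ <;> simp only [β, polar_add_left', QuadraticAlgebra.re_add,
        QuadraticAlgebra.im_add, add_div])
    (fun z u v => by
      refine QuadraticAlgebra.ext ?_ ?_ <;>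
        simp only [β, hsmul, polar_add_left', polar_smul_left', h.adj, h.sq, polar_smul_right', smul_eq_mul,
          QuadraticAlgebra.re_mul, QuadraticAlgebra.im_mul] <;> ring)
    (fun u v v' => by
      refine QuadraticAlgebra.ext ?_ ?_ <;> simp only [β, map_add, polar_add_right', QuadraticAlgebra.re_add,
        QuadraticAlgebra.im_add, add_div])
    (fun z u v => by
      refine QuadraticAlgebra.ext ?_ ?_ <;>
        simp only [β, hsmul, map_add, map_smul, polar_add_right', polar_smul_right', h.sq, smul_eq_mul,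
          QuadraticAlgebra.re_mul, QuadraticAlgebra.im_mul] <;> ring)
  have hB : ∀ u v, B u v = ⟨polar Q u (J v) / 2, polar Q u v / 2⟩ := fun u v => rfl
  have hpol : ∀ u v, polar B.toQuadraticMap u v = ⟨polar Q u (J v), polar Q u v⟩ := fun u v => by
    rw [LinearMap.BilinMap.polar_toQuadraticMap, hB, hB]
    have e1 : polar Q v (J u) = polar Q u (J v) := by rw [← h.adj, QuadraticMap.polar_comm]
    have e2 : polar Q v u = polar Q u v := QuadraticMap.polar_comm ..
    refine QuadraticAlgebra.ext ?_ ?_ <;>
      simp only [QuadraticAlgebra.re_add, QuadraticAlgebra.im_add, e1, e2] <;> field_simp <;> ring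
  refine ⟨B.toQuadraticMap, fun v => ?_, hpol, ?_⟩
  · rw [LinearMap.BilinMap.toQuadraticMap_apply, hB]
    refine QuadraticAlgebra.ext rfl ?_
    show polar Q v v / 2 = Q v
    rw [polar_self']; field_simp
  · have aux : ∀ u, (∀ v, polar B.toQuadraticMap u v = 0) → u = 0 := fun u hu => hQ.1 u fun v => by
      have := congrArg QuadraticAlgebra.im ((hpol u v).symm.trans (hu v))
      exact this
    exact ⟨fun u hu => aux u hu, fun u hu => aux u fun v => by
      rw [QuadraticMap.polar_comm]; exact hu v⟩

/-- The dimension over the extension. -/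
theorem finrank_ext {Q : QuadraticForm F V} {J : Module.End F V} {ν : F}
    [Fact (∀ r : F, r ^ 2 ≠ ν + 0 * r)] (h : SAJ Q J ν) :
    letI := extModule h
    2 * finrank (Ext F ν) V = finrank F V ∧ FiniteDimensional (Ext F ν) V ∧ IsScalarTower F (Ext F ν) V := by
  letI := extModule h
  haveI : IsScalarTower F (Ext F ν) V := IsScalarTower.of_algebraMap_smul fun a v => by
    show extHom h (algebraMap F _ a) v = a • v
    rw [AlgHom.commutes]; rfl
  haveI : FiniteDimensional (Ext F ν) V := Module.Finite.of_restrictScalars_finite F _ V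
  refine ⟨?_, inferInstance, inferInstance⟩
  rw [← finrank_mul_finrank F (Ext F ν) V, QuadraticAlgebra.finrank_eq_two]

theorem norm_square_iff {ν : F} [Fact (∀ r : F, r ^ 2 ≠ ν + 0 * r)] (h2 : (2 : F) ≠ 0) (hν : ¬ IsSquare ν)
    (z : Ext F ν) : IsSquare (z.re * z.re - ν * (z.im * z.im)) ↔ IsSquare z := by
  haveI := finite_ext ν
  have hN : ∀ x y : Ext F ν, (x * y).re * (x * y).re - ν * ((x * y).im * (x * y).im) =
      (x.re * x.re - ν * (x.im * x.im)) * (y.re * y.re - ν * (y.im * y.im)) := fun x y => by
    simp only [QuadraticAlgebra.re_mul, QuadraticAlgebra.im_mul]; ring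
  refine ⟨fun hz => ?_, ?_⟩
  swap
  · rintro ⟨w, rfl⟩
    exact ⟨_, hN w w⟩
  by_contra hns
  obtain ⟨w, hw⟩ : ∃ w : Ext F ν, ¬ IsSquare (w.re * w.re - ν * (w.im * w.im)) := by
    by_contra! hall
    haveI := Fintype.ofFinite F
    have hodd : Fintype.card F % 2 = 1 := FiniteField.odd_card_of_char_ne_two fun hc => h2 (by
      haveI : CharP F 2 := ringChar.eq_iff.1 hc
      exact CharTwo.two_eq_zero)
    obtain ⟨a, b, hab⟩ := FiniteField.exists_root_sum_quadratic
      (f := Polynomial.C (1 : F) * Polynomial.X ^ 2 - Polynomial.C ν)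
      (g := Polynomial.C (-ν) * Polynomial.X ^ 2)
      (Polynomial.degree_eq_of_le_of_coeff_ne_zero (by compute_degree!) (by simp))
      (Polynomial.degree_C_mul_X_pow _ (neg_ne_zero.2 fun h => hν (h ▸ IsSquare.zero))) hodd
    simp only [Polynomial.eval_sub, Polynomial.eval_mul, Polynomial.eval_C, Polynomial.eval_pow,
      Polynomial.eval_X] at hab
    refine hν ?_
    have := hall ⟨a, b⟩
    rwa [show a * a - ν * (b * b) = ν by linear_combination hab] at this
  have hwns : ¬ IsSquare w := fun ⟨t, ht⟩ => hw (by rw [ht, hN]; exact ⟨_, rfl⟩)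
  have h22 := two_ne_zero_ext (ν := ν) h2
  have hz0 : z ≠ 0 := fun h => hns (by rw [h]; exact IsSquare.zero)
  have hsq : IsSquare (w * z) := by
    haveI := Fintype.ofFinite (Ext F ν)
    rw [Quad.isSquare_mul_iff_not h22 (fun h => hwns (by rw [h]; exact IsSquare.zero)) hns]
    exact hwns
  obtain ⟨t, ht⟩ := hsq
  have h1 := hN w z
  rw [ht, hN] at h1
  refine hw ?_
  obtain ⟨s, hs⟩ := hz
  have hs0 : s ≠ 0 := fun h => by
    rw [h, mul_zero] at hs
    by_cases him : z.im = 0
    · exact hz0 (QuadraticAlgebra.ext (by simpa [him] using hs) him)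
    · exact hν ⟨z.re / z.im, by field_simp; linear_combination -hs⟩
  exact ⟨(t.re * t.re - ν * (t.im * t.im)) / s, by field_simp; rw [hs] at h1; linear_combination -h1⟩

end CfsgLib.Geo.OrthFieldExt
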