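/-
Self-adjoint square roots of a non-square are conjugate under isometries.
-/
import Cfsg.Agent.Lib.Geo.OrthFieldExt.Form

set_option autoImplicit false
set_option maxHeartbeats 800000
set_option linter.unusedSectionVars false
set_option linter.style.haveILetI false

namespace CfsgLib.Geo.OrthFieldExt

open CfsgLib.Classical CfsgLib.Classical.Quad CfsgLib.Geo.OrthMax CfsgLib.Geo.Elusive
open QuadraticMap (polar polarBilin)
open Module

universe u

variable {F : Type u} [Field F] [Finite F]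
variable {V : Type u} [AddCommGroup V] [Module F V] [FiniteDimensional F V] {Q : QuadraticForm F V}
variable {J : Module.End F V} {ν : F}

theorem SAJ.gram (h : SAJ Q J ν) (a b a' b' : F) (u : V) :
    polar Q (a • u + b • J u) (a' • u + b' • J u) =
      (a * a' + ν * (b * b')) * polar Q u u + (a * b' + b * a') * polar Q u (J u) := by
  simp only [polar_add_left', polar_add_right', polar_smul_left', polar_smul_right', h.adj, h.sq]
  ring

theorem disc_ne (h2 : (2 : F) ≠ 0) (hν : ¬ IsSquare ν) {u : V} (hu : Q u ≠ 0) (c : F) :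
    ν * (polar Q u u * polar Q u u) - c * c ≠ 0 := by
  intro he
  have ha : polar Q u u ≠ 0 := by rw [polar_self']; exact mul_ne_zero h2 hu
  exact hν ⟨c / polar Q u u, by field_simp; linear_combination he⟩

/-- The invariant plane through an anisotropic vector. -/
theorem SAJ.plane (h2 : (2 : F) ≠ 0) (hν : ¬ IsSquare ν) (h : SAJ Q J ν) {u : V} (hu : Q u ≠ 0) :
    Nondeg Q (Submodule.span F ({u, J u} : Set V)) ∧ finrank F (Submodule.span F ({u, J u} : Set V)) = 2 ∧
      (∀ x ∈ Submodule.span F ({u, J u} : Set V), J x ∈ Submodule.span F ({u, J u} : Set V)) ∧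
      ∀ a b : F, a • u + b • J u = 0 → a = 0 ∧ b = 0 := by
  have hd := disc_ne h2 hν hu (polar Q u (J u))
  have key : ∀ a b : F, polar Q (a • u + b • J u) u = 0 → polar Q (a • u + b • J u) (J u) = 0 → a = 0 ∧ b = 0 := by
    intro a b h1 h3
    simp only [polar_add_left', polar_smul_left', h.adj, h.sq, polar_smul_right'] at h1 h3
    constructor
    · refine (mul_eq_zero.1 (show a * (ν * (polar Q u u * polar Q u u) - polar Q u (J u) * polar Q u (J u)) = 0 by
        linear_combination (ν * polar Q u u) * h1 - (polar Q u (J u)) * h3)).resolve_right hd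
    · refine (mul_eq_zero.1 (show b * (ν * (polar Q u u * polar Q u u) - polar Q u (J u) * polar Q u (J u)) = 0 by
        linear_combination (polar Q u u) * h3 - (polar Q u (J u)) * h1)).resolve_right hd
  have hli : ∀ a b : F, a • u + b • J u = 0 → a = 0 ∧ b = 0 := fun a b hab =>
    key a b (by rw [hab, QuadraticMap.polar_zero_left]) (by rw [hab, QuadraticMap.polar_zero_left])
  refine ⟨fun x hx hall => ?_, ?_, fun x hx => ?_, hli⟩
  · obtain ⟨a, b, rfl⟩ := Submodule.mem_span_pair.1 hx
    obtain ⟨rfl, rfl⟩ := key a b (hall u (Submodule.subset_span (Or.inl rfl)))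
      (hall _ (Submodule.subset_span (Or.inr rfl)))
    simp
  · rw [← Matrix.range_cons_cons_empty u (J u) ![], finrank_span_eq_card (LinearIndependent.pair_iff.2 hli),
      Fintype.card_fin]
  · obtain ⟨a, b, rfl⟩ := Submodule.mem_span_pair.1 hx
    rw [map_add, map_smul, map_smul, h.sq, smul_smul]
    exact Submodule.mem_span_pair.2 ⟨b * ν, a, add_comm _ _⟩

theorem SAJ.perp_invariant (h : SAJ Q J ν) {W : Submodule F V} (hW : ∀ x ∈ W, J x ∈ W) :
    ∀ x ∈ OrthMax.perp Q W, J x ∈ OrthMax.perp Q W := fun x hx => mem_perp.2 fun y hy => by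
  rw [← h.adj]; exact mem_perp.1 hx _ (hW y hy)

theorem SAJ.restrict (h : SAJ Q J ν) {W : Submodule F V} (hW : ∀ x ∈ W, J x ∈ W) :
    SAJ (Q.comp W.subtype) (LinearMap.restrict J hW) ν :=
  ⟨fun u v => by rw [polar_comp W, polar_comp W]; exact h.adj _ _, fun v => Subtype.ext (h.sq v)⟩

/-- A vector with the same invariants as a given one in an isometric space. -/
theorem exists_match {W : Type u} [AddCommGroup W] [Module F W] [FiniteDimensional F W] {Q' : QuadraticForm F W}
    {J' : Module.End F W} (h2 : (2 : F) ≠ 0) (hν : ¬ IsSquare ν) (h : SAJ Q J ν) (h' : SAJ Q' J' ν)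
    (hQ' : (polarBilin Q').Nondegenerate) (e : V ≃ₗ[F] W) (he : ∀ v, Q' (e v) = Q v) {u : V} (hu : Q u ≠ 0) :
    ∃ w : W, Q' w = Q u ∧ polar Q' w (J' w) = polar Q u (J u) := by
  haveI : Fact (∀ r : F, r ^ 2 ≠ ν + 0 * r) := fact_ext hν
  letI := extModule h'
  haveI := finite_ext ν
  obtain ⟨R, hR, -, hRn⟩ := exists_form h2 h' hQ'
  obtain ⟨hdim, hfd, -⟩ := finrank_ext h'
  set t : Ext F ν := ⟨polar Q u (J u) / 2, Q u⟩ with ht
  have ht0 : t ≠ 0 := fun hz => hu (congrArg QuadraticAlgebra.im hz)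
  suffices hex : ∃ w, R w = t by
    obtain ⟨w, hw⟩ := hex
    rw [hR] at hw
    refine ⟨w, congrArg QuadraticAlgebra.im hw, ?_⟩
    have := congrArg QuadraticAlgebra.re hw
    simp only [t] at this
    field_simp at this
    exact this
  have he' : finrank F W = finrank F V := e.finrank_eq.symm
  obtain ⟨-, hP, -, hli⟩ := h.plane h2 hν hu
  have hle : finrank F (Submodule.span F ({u, J u} : Set V)) ≤ finrank F V := Submodule.finrank_le _
  rcases Nat.lt_or_ge 1 (finrank (Ext F ν) W) with hbig | hsmall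
  · exact Quad.exists_apply_eq hRn hbig ht0
  have hd2 : finrank F W = 2 := by omega
  haveI : Nontrivial W := Module.nontrivial_of_finrank_pos (R := F) (by omega)
  obtain ⟨v, hv⟩ := exists_apply_ne_zero hQ'
  obtain ⟨-, hP', -, -⟩ := h'.plane h2 hν hv
  have htop : Submodule.span F ({v, J' v} : Set W) = ⊤ :=
    Submodule.eq_top_of_finrank_eq (by rw [hP', hd2])
  obtain ⟨m, n, hmn⟩ := Submodule.mem_span_pair.1 (htop.ge (Submodule.mem_top (x := e u)))
  obtain ⟨m', n', hmn'⟩ := Submodule.mem_span_pair.1 (htop.ge (Submodule.mem_top (x := e (J u))))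
  have hpe : ∀ x y, polar Q' (e x) (e y) = polar Q x y := fun x y => by simp only [polar, ← map_add, he]
  have g11 := (hpe u u)
  have g12 := (hpe u (J u))
  have g22 : polar Q' (e (J u)) (e (J u)) = ν * polar Q u u := by rw [hpe, h.adj, h.sq, polar_smul_right']
  rw [← hmn, h'.gram] at g11
  rw [← hmn, ← hmn', h'.gram] at g12
  rw [← hmn', h'.gram] at g22
  set A := polar Q' v v
  set C := polar Q' v (J' v)
  set a := polar Q u u with hadef
  set c := polar Q u (J u) with hcdef
  have hdet : ν * (a * a) - c * c = (m * n' - n * m') ^ 2 * (ν * (A * A) - C * C) := by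
    calc ν * (a * a) - c * c = a * (ν * a) - c * c := by ring
      _ = _ := by rw [← g22, ← g11, ← g12]; ring
  obtain ⟨k, hk⟩ : ∃ k : Ext F ν, k = ⟨C / 2, A / 2⟩ := ⟨_, rfl⟩
  have hk' : R v = k := by
    rw [hk, hR]
    refine QuadraticAlgebra.ext rfl ?_
    show Q' v = A / 2
    rw [show A = polar Q' v v from rfl, polar_self']
    field_simp
  have hk0 : k ≠ 0 := fun hz => hv (by rw [hk'.symm, hR] at hz; exact congrArg QuadraticAlgebra.im hz)
  obtain ⟨z, hz⟩ : IsSquare (t / k) := by
    rw [← norm_square_iff h2 hν]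
    have hN : ∀ x y : Ext F ν, (x * y).re * (x * y).re - ν * ((x * y).im * (x * y).im) =
        (x.re * x.re - ν * (x.im * x.im)) * (y.re * y.re - ν * (y.im * y.im)) := fun x y => by
      simp only [QuadraticAlgebra.re_mul, QuadraticAlgebra.im_mul]; ring
    have h1 := hN (t / k) k
    rw [div_mul_cancel₀ t hk0] at h1
    have hka : k.re * k.re - ν * (k.im * k.im) = -(ν * (A * A) - C * C) / 4 := by
      rw [hk]
      show C / 2 * (C / 2) - ν * (A / 2 * (A / 2)) = _
      rw [show (4 : F) = 2 * 2 by norm_num]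
      field_simp
      ring
    have hta : t.re * t.re - ν * (t.im * t.im) = -(ν * (a * a) - c * c) / 4 := by
      rw [hadef, polar_self']
      show c / 2 * (c / 2) - ν * (Q u * Q u) = _
      rw [show (4 : F) = 2 * 2 by norm_num]
      field_simp
      ring
    have hne : ν * (A * A) - C * C ≠ 0 := disc_ne h2 hν hv C
    have h4 : (4 : F) ≠ 0 := by rw [show (4 : F) = 2 * 2 by norm_num]; exact mul_ne_zero h2 h2
    rw [hka, hta, hdet] at h1
    refine ⟨m * n' - n * m', mul_right_cancel₀ (div_ne_zero (neg_ne_zero.2 hne) h4) ?_⟩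
    rw [← h1]; ring
  refine ⟨z • v, ?_⟩
  rw [QuadraticMap.map_smul, hk', smul_eq_mul, ← hz, div_mul_cancel₀ t hk0]

/-- Spaces with such maps are isometric compatibly as soon as they are isometric. -/
theorem exists_intertwine (h2 : (2 : F) ≠ 0) (hν : ¬ IsSquare ν) (n : ℕ) :
    ∀ {V W : Type u} [AddCommGroup V] [Module F V] [FiniteDimensional F V] [AddCommGroup W] [Module F W]
      [FiniteDimensional F W] {Q : QuadraticForm F V} {Q' : QuadraticForm F W} {J : Module.End F V}
      {J' : Module.End F W}, SAJ Q J ν → SAJ Q' J' ν → (polarBilin Q).Nondegenerate →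
      (polarBilin Q').Nondegenerate → ∀ e : V ≃ₗ[F] W, (∀ v, Q' (e v) = Q v) → finrank F V = n →
      ∃ f : V ≃ₗ[F] W, (∀ v, Q' (f v) = Q v) ∧ ∀ v, f (J v) = J' (f v) := by
  induction n using Nat.strong_induction_on with
  | h n ih =>
  intro V W _ _ _ _ _ _ Q Q' J J' h h' hQ hQ' e he hn
  rcases Nat.eq_zero_or_pos n with rfl | hpos
  · haveI : Subsingleton V := Module.finrank_zero_iff.1 hn
    exact ⟨e, he, fun v => e.symm.injective (Subsingleton.elim _ _)⟩
  haveI : Nontrivial V := Module.nontrivial_of_finrank_pos (R := F) (by omega)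
  obtain ⟨u, hu⟩ := exists_apply_ne_zero hQ
  obtain ⟨w, hw, hwc⟩ := exists_match h2 hν h h' hQ' e he hu
  obtain ⟨hP, hPd, hPi, hPl⟩ := h.plane h2 hν hu
  obtain ⟨hP', hP'd, hP'i, hP'l⟩ := h'.plane h2 hν (hw ▸ hu)
  set P := Submodule.span F ({u, J u} : Set V) with hPdef
  set P' := Submodule.span F ({w, J' w} : Set W) with hP'def
  have hpe : ∀ x y, polar Q' (e x) (e y) = polar Q x y := fun x y => by simp only [polar, ← map_add, he]
  have hval : ∀ a b : F, Q' (a • w + b • J' w) = Q (a • u + b • J u) := fun a b => by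
    refine mul_left_cancel₀ h2 ?_
    rw [← polar_self', ← polar_self', h'.gram, h.gram, hwc, polar_self', polar_self', hw]
  -- the plane map, extended by Witt's theorem
  let bw : (F × F) →ₗ[F] V := (LinearMap.toSpanSingleton F V u).coprod (LinearMap.toSpanSingleton F V (J u))
  have hbw : ∀ z : F × F, bw z = z.1 • u + z.2 • J u := fun z => rfl
  have hbinj : Function.Injective bw := (injective_iff_map_eq_zero bw).2 fun z hz => by
    rw [hbw] at hz
    exact Prod.ext (hPl _ _ hz).1 (hPl _ _ hz).2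
  let bw' : (F × F) →ₗ[F] V := e.symm.toLinearMap ∘ₗ
    ((LinearMap.toSpanSingleton F W w).coprod (LinearMap.toSpanSingleton F W (J' w)))
  have hbw' : ∀ z : F × F, bw' z = e.symm (z.1 • w + z.2 • J' w) := fun z => rfl
  let φ : LinearMap.range bw →ₗ[F] V := bw' ∘ₗ (LinearEquiv.ofInjective bw hbinj).symm.toLinearMap
  have hφ : ∀ z, φ ⟨bw z, LinearMap.mem_range_self bw z⟩ = bw' z := fun z => by
    show bw' ((LinearEquiv.ofInjective bw hbinj).symm _) = _
    congr 1
    exact (LinearEquiv.symm_apply_eq _).2 (Subtype.ext rfl)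
  have hφi : Function.Injective φ := by
    show Function.Injective (bw' ∘ (LinearEquiv.ofInjective bw hbinj).symm)
    refine Function.Injective.comp ?_ (LinearEquiv.ofInjective bw hbinj).symm.injective
    refine (injective_iff_map_eq_zero bw').2 fun z hz => ?_
    rw [hbw', LinearEquiv.map_eq_zero_iff] at hz
    exact Prod.ext (hP'l _ _ hz).1 (hP'l _ _ hz).2
  have hφQ : ∀ x : LinearMap.range bw, Q (φ x) = Q (x : V) := by
    rintro ⟨_, z, rfl⟩
    rw [hφ, hbw']
    show _ = Q (bw z)
    rw [hbw, ← hval, ← he, e.apply_symm_apply]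
  obtain ⟨g, hg⟩ := witt hQ _ φ hφi hφQ
  let e' : V ≃ₗ[F] W := (g : V ≃ₗ[F] V).trans e
  have he' : ∀ v, Q' (e' v) = Q v := fun v => by
    exact (he _).trans (OQ.map_apply g v)
  have hpe' : ∀ x y, polar Q' (e' x) (e' y) = polar Q x y := fun x y => by simp only [polar, ← map_add, he']
  have heab : ∀ a b : F, e' (a • u + b • J u) = a • w + b • J' w := fun a b => by
    show e ((g : V ≃ₗ[F] V) _) = _
    rw [show a • u + b • J u = ((⟨bw (a, b), LinearMap.mem_range_self _ _⟩ : LinearMap.range bw) : V) from rfl, hg, hφ,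
      hbw', e.apply_symm_apply]
  have hmap : ∀ x, x ∈ P ↔ e' x ∈ P' := fun x => by
    constructor
    · intro hx
      obtain ⟨a, b, rfl⟩ := Submodule.mem_span_pair.1 hx
      rw [heab]
      exact Submodule.mem_span_pair.2 ⟨a, b, rfl⟩
    · intro hx
      obtain ⟨a, b, hab⟩ := Submodule.mem_span_pair.1 hx
      rw [← heab] at hab
      rw [← e'.injective hab]
      exact Submodule.mem_span_pair.2 ⟨a, b, rfl⟩
  set X := OrthMax.perp Q P with hXdef
  set X' := OrthMax.perp Q' P' with hX'def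
  have hXX : X.map (e' : V →ₗ[F] W) = X' := by
    refine le_antisymm ?_ fun y hy => ⟨e'.symm y, mem_perp.2 fun p hp => ?_, e'.apply_symm_apply y⟩
    · rintro _ ⟨x, hx, rfl⟩
      refine mem_perp.2 fun p hp => ?_
      rw [← e'.apply_symm_apply p]
      show polar Q' _ (e' x) = 0
      rw [hpe']
      exact mem_perp.1 hx _ ((hmap _).2 (by rwa [e'.apply_symm_apply]))
    · rw [← hpe', e'.apply_symm_apply]
      exact mem_perp.1 hy _ ((hmap p).1 hp)
  let eX : X ≃ₗ[F] X' := (e'.submoduleMap X).trans (LinearEquiv.ofEq _ _ hXX)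
  have hXd : finrank F X + 2 = n := by
    rw [hXdef, finrank_perp hQ, hPd]
    have := Submodule.finrank_le P
    omega
  obtain ⟨f₁, hf₁, hf₁J⟩ := ih (finrank F X) (by omega) (h.restrict (h.perp_invariant hPi))
    (h'.restrict (h'.perp_invariant hP'i)) (hP.perp hQ).comp (hP'.perp hQ').comp eX (fun x => he' x) rfl
  let s := Submodule.prodEquivOfIsCompl P X (hP.isCompl hQ)
  let s' := Submodule.prodEquivOfIsCompl P' X' (hP'.isCompl hQ')
  let eP : P ≃ₗ[F] P' := (e'.submoduleMap P).trans (LinearEquiv.ofEq _ _ (by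
    refine le_antisymm ?_ fun y hy => ⟨e'.symm y, (hmap _).2 (by rwa [e'.apply_symm_apply]), e'.apply_symm_apply y⟩
    rintro _ ⟨x, hx, rfl⟩
    exact (hmap x).1 hx))
  have hs : ∀ z, s z = (z.1 : V) + (z.2 : V) := fun z => rfl
  have hs' : ∀ z, s' z = (z.1 : W) + (z.2 : W) := fun z => rfl
  let f : V ≃ₗ[F] W := s.symm.trans ((eP.prodCongr f₁).trans s')
  have hf : ∀ z, f (s z) = e' (z.1 : V) + (f₁ z.2 : W) := fun z => by
    show s' ((eP.prodCongr f₁) (s.symm (s z))) = _
    rw [s.symm_apply_apply, hs']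
    rfl
  refine ⟨f, fun v => ?_, fun v => ?_⟩
  · obtain ⟨z, rfl⟩ := s.surjective v
    rw [hf, hs, apply_add, apply_add, he', mem_perp.1 z.2.2 _ z.1.2,
      mem_perp.1 (f₁ z.2).2 _ ((hmap _).1 z.1.2)]
    congr 2
    exact hf₁ z.2
  · obtain ⟨⟨⟨p, hp⟩, x⟩, rfl⟩ := s.surjective v
    have e1 : J (s (⟨p, hp⟩, x)) = s (⟨J p, hPi p hp⟩, LinearMap.restrict J (h.perp_invariant hPi) x) := by
      rw [hs, hs, map_add]; rfl
    rw [e1, hf, hf, map_add, hf₁J]
    obtain ⟨a, b, rfl⟩ := Submodule.mem_span_pair.1 hp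
    show e' (J (a • u + b • J u)) + J' (f₁ x : W) = J' (e' (a • u + b • J u)) + J' (f₁ x : W)
    rw [show J (a • u + b • J u) = (b * ν) • u + a • J u by rw [map_add, map_smul, map_smul, h.sq, smul_smul, add_comm],
      heab, heab]
    rw [show J' (a • w + b • J' w) = (b * ν) • w + a • J' w by
      rw [map_add, map_smul, map_smul, h'.sq, smul_smul, add_comm]]

/-- Two self-adjoint square roots are conjugate. -/
theorem exists_conj (h2 : (2 : F) ≠ 0) (hν : ¬ IsSquare ν) (hQ : (polarBilin Q).Nondegenerate)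
    {J' : Module.End F V} (h : SAJ Q J ν) (h' : SAJ Q J' ν) :
    ∃ a : OQ Q, ∀ v, (a : V ≃ₗ[F] V) (J v) = J' ((a : V ≃ₗ[F] V) v) := by
  obtain ⟨f, hf, hfJ⟩ := exists_intertwine h2 hν _ h h' hQ hQ (LinearEquiv.refl F V) (fun _ => rfl) rfl
  exact ⟨⟨f, mem_OQ.2 hf⟩, hfJ⟩

end CfsgLib.Geo.OrthFieldExt
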