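/-
The type of the form over the quadratic extension and the order of its orthogonal group.
-/
import Cfsg.Agent.Lib.Geo.OrthFieldExt.Conj
import Cfsg.Agent.Lib.Classical.Quad.StandardForms

set_option autoImplicit false
set_option maxHeartbeats 800000
set_option linter.unusedSectionVars false
set_option linter.style.haveILetI false

namespace CfsgLib.Geo.OrthFieldExt

open CfsgLib.Classical CfsgLib.Classical.Quad CfsgLib.Geo.OrthMax CfsgLib.Geo.Elusive
open QuadraticMap (polar polarBilin)
open Module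

universe u

variable {F : Type u} [Field F] [Finite F]
variable {V : Type u} [AddCommGroup V] [Module F V] [FiniteDimensional F V] {Q : QuadraticForm F V}
variable {J : Module.End F V} {ν : F}

/-- In plus type of dimension `4 m` some maximal singular subspace is invariant. -/
theorem exists_half (h2 : (2 : F) ≠ 0) (hν : ¬ IsSquare ν) (hQ : (polarBilin Q).Nondegenerate) (h : SAJ Q J ν)
    {m : ℕ} (hd : finrank F V = 2 * (m + m)) (hp : Plus Q (⊤ : Submodule F V)) :
    ∃ S : Submodule F V, (∀ v ∈ S, J v ∈ S) ∧ (∀ v ∈ S, Q v = 0) ∧ finrank F S = m + m := by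
  haveI := Fintype.ofFinite F
  obtain ⟨e, he⟩ : ∃ e : (Fin (m + m) ⊕ Fin (m + m) → F) ≃ₗ[F] V, ∀ v, Q (e v) = Cfsg.quadFormPlus (m + m) F v := by
    rcases CfsgLib.Known.QuadClassify.classify_even hd Q hQ with h1 | ⟨-, ζ, e, hζ, he⟩
    · exact h1
    · exact absurd hp (not_plus_of_model (CfsgLib.Known.QuadClassify.aniso_of_no_root hζ)
        (e.trans Submodule.topEquiv.symm) he)
  let π : Fin (m + m) → Fin (m + m) := fun i => finSumFinEquiv (finSumFinEquiv.symm i).swap
  let c : Fin (m + m) → F := fun i => Sum.elim (fun _ => ν) (fun _ => 1) (finSumFinEquiv.symm i)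
  have hππ : ∀ i, π (π i) = i := fun i => by simp [π]
  have hcπ : ∀ i, c i * c (π i) = ν := fun i => by
    obtain ⟨s, rfl⟩ := finSumFinEquiv.surjective i
    rcases s with s | s <;>
      simp only [π, c, Equiv.symm_apply_apply, Sum.swap_inl, Sum.swap_inr, Sum.elim_inl, Sum.elim_inr, mul_one, one_mul]
  let A : (Fin (m + m) ⊕ Fin (m + m) → F) →ₗ[F] (Fin (m + m) ⊕ Fin (m + m) → F) :=
    { toFun := fun v => Sum.elim (fun i => c i * v (Sum.inl (π i))) fun i => c (π i) * v (Sum.inr (π i))
      map_add' := fun u v => by funext x; rcases x with i | i <;> simp [mul_add]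
      map_smul' := fun s v => by funext x; rcases x with i | i <;> simp <;> ring }
  have hA : ∀ u v, polar (qPlus (m + m) F) (A u) v = polar (qPlus (m + m) F) u (A v) := fun u v => by
    rw [polar_qPlus, polar_qPlus]
    simp only [Finset.sum_add_distrib, A, LinearMap.coe_mk, AddHom.coe_mk, Sum.elim_inl, Sum.elim_inr]
    have hsum : ∀ f : Fin (m + m) → F, ∑ i, f i = ∑ i, f (π i) := fun f =>
      (Equiv.sum_comp (⟨π, π, hππ, hππ⟩ : Fin (m + m) ≃ Fin (m + m)) f).symm
    rw [hsum (fun i => c i * u (Sum.inl (π i)) * v (Sum.inr i)), hsum (fun i => v (Sum.inl i) * _)]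
    simp only [hππ]
    congr 1 <;> refine Finset.sum_congr rfl fun i _ => ?_ <;> ring
  have hAA : ∀ v, A (A v) = ν • v := fun v => by
    funext x
    rcases x with i | i
    · show c i * (c (π i) * v (Sum.inl (π (π i)))) = ν * v (Sum.inl i)
      rw [hππ, ← mul_assoc, hcπ]
    · show c (π i) * (c (π (π i)) * v (Sum.inr (π (π i)))) = ν * v (Sum.inr i)
      rw [hππ, ← mul_assoc, mul_comm (c (π i)), hcπ]
  have hpe : ∀ u v, polar Q (e u) (e v) = polar (qPlus (m + m) F) u v := fun u v => by
    simp only [polar, ← map_add, he, coe_qPlus]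
  let J' : Module.End F V := e.toLinearMap ∘ₗ A ∘ₗ e.symm.toLinearMap
  have hJ' : ∀ v, J' (e v) = e (A v) := fun v => by
    show e (A (e.symm (e v))) = _
    rw [e.symm_apply_apply]
  have hs : SAJ Q J' ν := by
    refine ⟨fun u v => ?_, fun v => ?_⟩
    · obtain ⟨u, rfl⟩ := e.surjective u
      obtain ⟨v, rfl⟩ := e.surjective v
      rw [hJ', hJ', hpe, hpe, hA]
    · obtain ⟨v, rfl⟩ := e.surjective v
      rw [hJ', hJ', hAA, map_smul]
  obtain ⟨a, ha⟩ := exists_conj h2 hν hQ hs h
  let L : (Fin (m + m) → F) →ₗ[F] (Fin (m + m) ⊕ Fin (m + m) → F) :=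
    { toFun := fun w => Sum.elim w 0
      map_add' := fun u v => by ext x; rcases x with i | i <;> simp
      map_smul' := fun r v => by ext x; rcases x with i | i <;> simp }
  let T : (Fin (m + m) → F) →ₗ[F] V := (a : V ≃ₗ[F] V).toLinearMap ∘ₗ e.toLinearMap ∘ₗ L
  refine ⟨LinearMap.range T, ?_, ?_, ?_⟩
  · rintro _ ⟨w, rfl⟩
    refine ⟨fun i => c i * w (π i), ?_⟩
    show (a : V ≃ₗ[F] V) (e (L _)) = J ((a : V ≃ₗ[F] V) (e (L w)))
    rw [← ha, hJ']
    congr 2
    funext x
    rcases x with i | i <;> simp [L, A]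
  · rintro _ ⟨w, rfl⟩
    show Q ((a : V ≃ₗ[F] V) (e (L w))) = 0
    rw [OQ.map_apply, he]
    simp [Cfsg.quadFormPlus, L]
  · have hT : Function.Injective T := fun u v huv => funext fun i => by
      have h1 : L u = L v := e.injective ((a : V ≃ₗ[F] V).injective huv)
      simpa [L] using congrFun h1 (Sum.inl i)
    rw [LinearMap.finrank_range_of_inj hT, Module.finrank_fin_fun]

/-- The two types agree. -/
theorem plus_iff (h2 : (2 : F) ≠ 0) [Fact (∀ r : F, r ^ 2 ≠ ν + 0 * r)] (hν : ¬ IsSquare ν)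
    (hQ : (polarBilin Q).Nondegenerate) (h : SAJ Q J ν) {m : ℕ} (hd : finrank F V = 2 * (m + m)) :
    letI := extModule h
    ∀ R : QuadraticForm (Ext F ν) V, (∀ v, R v = ⟨polar Q v (J v) / 2, Q v⟩) →
      (Plus R (⊤ : Submodule (Ext F ν) V) ↔ Plus Q (⊤ : Submodule F V)) := by
  letI := extModule h
  obtain ⟨hdim, hfd, htower⟩ := finrank_ext h
  haveI := hfd
  haveI := htower
  intro R hR
  have hscal : ∀ S : Submodule (Ext F ν) V, finrank F S = 2 * finrank (Ext F ν) S := fun S => by
    rw [← finrank_mul_finrank F (Ext F ν) S, QuadraticAlgebra.finrank_eq_two]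
  constructor
  · rintro ⟨S, -, hS, hSd⟩
    rw [finrank_top] at hSd
    refine ⟨S.restrictScalars F, le_top, fun s hs => ?_, ?_⟩
    · have := hS s hs
      rw [hR] at this
      exact congrArg QuadraticAlgebra.im this
    · rw [finrank_top, show finrank F (S.restrictScalars F) = finrank F S from rfl, hscal S]
      omega
  · intro hp
    obtain ⟨S, hSJ, hS, hSd⟩ := exists_half h2 hν hQ h hd hp
    let S' : Submodule (Ext F ν) V :=
      { carrier := S
        add_mem' := fun {a b} => S.add_mem
        zero_mem' := S.zero_mem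
        smul_mem' := fun z v hv => by
          show z.re • v + z.im • J v ∈ S
          exact S.add_mem (S.smul_mem _ hv) (S.smul_mem _ (hSJ v hv)) }
    refine ⟨S', le_top, fun s hs => ?_, ?_⟩
    · have hpol : polar Q s (J s) = 0 := by
        rw [polar, hS _ (S.add_mem hs (hSJ s hs)), hS s hs, hS _ (hSJ s hs)]; ring
      rw [hR, hpol, hS s hs, zero_div]
      rfl
    · rw [finrank_top]
      have e1 := hscal S'
      rw [show finrank F S' = finrank F S from rfl] at e1
      omega

/-- The order of an orthogonal group in even dimension, by type. -/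
theorem card_OQ_even {K : Type u} [Field K] [Fintype K] {W : Type u} [AddCommGroup W] [Module K W]
    [FiniteDimensional K W] {R : QuadraticForm K W} (hR : (polarBilin R).Nondegenerate) {k : ℕ}
    (hW : finrank K W = 2 * (k + 1)) :
    (Plus R (⊤ : Submodule K W) → Nat.card (OQ R) = 2 * Fintype.card K ^ ((k + 1) * k) *
        (Fintype.card K ^ (k + 1) - 1) * ∏ i ∈ Finset.range k, (Fintype.card K ^ (2 * (i + 1)) - 1)) ∧
    (¬ Plus R (⊤ : Submodule K W) → Nat.card (OQ R) = 2 * Fintype.card K ^ ((k + 1) * k) *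
        (Fintype.card K ^ (k + 1) + 1) * ∏ i ∈ Finset.range k, (Fintype.card K ^ (2 * (i + 1)) - 1)) := by
  rcases CfsgLib.Known.QuadClassify.classify_even hW R hR with ⟨e, he⟩ | ⟨-, ζ, e, hζ, he⟩
  · refine ⟨fun _ => ?_, fun h => absurd (plus_of_model (e.trans Submodule.topEquiv.symm) he) h⟩
    rw [← card_OQ_qPlus rfl k]
    exact (Nat.card_congr (isoCongrEq (f := fun u _ => qPlus (k + 1) K u) (f' := fun u _ => R u) e
      fun u _ => by rw [he, coe_qPlus]).toEquiv).symm
  · have hab := CfsgLib.Known.QuadClassify.aniso_of_no_root hζ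
    refine ⟨fun h => absurd h (not_plus_of_model hab (e.trans Submodule.topEquiv.symm) he), fun _ => ?_⟩
    rw [← card_OQ_qMinus rfl k hab]
    exact (Nat.card_congr (isoCongrEq (f := fun u _ => qMinus k K 1 ζ u) (f' := fun u _ => R u) e
      fun u _ => by rw [coe_qMinus]; exact he u).toEquiv).symm

/-- The order of an orthogonal group in odd dimension. -/
theorem card_OQ_odd {K : Type u} [Field K] [Fintype K] (h2 : (2 : K) ≠ 0) {W : Type u} [AddCommGroup W] [Module K W]
    [FiniteDimensional K W] {R : QuadraticForm K W} (hR : (polarBilin R).Nondegenerate) {k : ℕ}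
    (hW : finrank K W = 2 * k + 1) :
    Nat.card (OQ R) = 2 * Fintype.card K ^ (k ^ 2) * ∏ i ∈ Finset.range k, (Fintype.card K ^ (2 * (i + 1)) - 1) := by
  obtain ⟨c, e, hc, he⟩ := CfsgLib.Known.QuadClassify.classify_odd hW R hR
  let s : (Unit ⊕ (Fin k ⊕ Fin k) → K) ≃ₗ[K] (Unit ⊕ (Fin k ⊕ Fin k) → K) :=
    LinearEquiv.piCongrRight fun i => match i with
      | .inr (.inr _) => LinearEquiv.smulOfUnit (Units.mk0 c hc)
      | _ => LinearEquiv.refl K K
  have hval : ∀ v, R ((s.trans e) v) = c * qOdd k K v := fun v => by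
    rw [LinearEquiv.trans_apply, he, coe_qOdd]
    simp only [Cfsg.quadFormOdd, Cfsg.quadFormPlus, mul_add, Finset.mul_sum]
    congr 1
    refine Finset.sum_congr rfl fun i _ => ?_
    show v _ * (c * v _) = _
    ring
  rw [← card_OQ_qOdd rfl h2 k]
  refine (Nat.card_congr (isoCongr (f := fun u _ => qOdd k K u) (f' := fun u _ => R u) (s.trans e)
    fun u v u' v' => ?_).toEquiv).symm
  rw [hval, hval]
  exact ⟨fun h => mul_left_cancel₀ hc h, fun h => by rw [h]⟩

end CfsgLib.Geo.OrthFieldExt
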