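/-
Self-adjoint quadratic fields of matrices and their normalisers.
-/
import Cfsg.Prelude.Def_GeometricClasses
import Cfsg.Agent.Lib.Geo.OrthOverfieldFinal
import Cfsg.Agent.Lib.Geo.OrthFieldExt.Form

set_option autoImplicit false
set_option maxHeartbeats 800000
set_option linter.unusedSectionVars false
set_option linter.style.haveILetI false

namespace CfsgLib.Geo.OrthFieldExt

open CfsgLib.Classical CfsgLib.Classical.Quad CfsgLib.Geo.OrthMax CfsgLib.Geo.Elusive
open QuadraticMap (polar polarBilin)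
open Matrix

universe u

variable {F : Type u} [Field F] [Finite F] {ι : Type} [Fintype ι] [DecidableEq ι]

/-- A square root of a non-square generating a field of degree two. -/
theorem exists_sqrt_gen [Nonempty ι] (h2 : (2 : F) ≠ 0) {K : Subalgebra F (Matrix ι ι F)}
    (hK : Cfsg.Geo.IsFieldSubalgebra 2 K) {Q : QuadraticForm F (ι → F)}
    (hs : Cfsg.Geo.IsSelfAdjointFor (polar (⇑Q)) K) :
    ∃ (M : Matrix ι ι F) (ν : F), ¬ IsSquare ν ∧ M ∈ K ∧ M * M = ν • (1 : Matrix ι ι F) ∧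
      (∀ x ∈ K, ∃ a b : F, a • (1 : Matrix ι ι F) + b • M = x) ∧
      SAJ Q (Matrix.toLinAlgEquiv' M) ν := by
  obtain ⟨k, t, d, hk, hkk, hirr, hspan, -⟩ := CfsgLib.Geo.OrthOverfield.exists_gen hK
  have hmem : k - (t / 2) • (1 : Matrix ι ι F) ∈ K := K.sub_mem hk (K.smul_mem K.one_mem _)
  have hMM : (k - (t / 2) • (1 : Matrix ι ι F)) * (k - (t / 2) • 1) = (t * t / 4 - d) • (1 : Matrix ι ι F) := by
    simp only [sub_mul, mul_sub, smul_mul_assoc, mul_smul_comm, one_mul, mul_one, hkk]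
    have h4 : t * t / 4 = t / 2 * (t / 2) := by rw [show (4 : F) = 2 * 2 by norm_num]; field_simp
    have ht : t = t / 2 + t / 2 := by field_simp; ring
    rw [h4]
    nth_rewrite 1 [ht]
    module
  refine ⟨k - (t / 2) • 1, t * t / 4 - d, ?_, hmem, hMM, fun x hx => ?_, fun u v => ?_, fun v => ?_⟩
  · rintro ⟨s, hs'⟩
    refine hirr (s + t / 2) ?_
    rw [show (4 : F) = 2 * 2 by norm_num] at hs'
    field_simp at hs' ⊢
    linear_combination -hs'
  · obtain ⟨a, b, rfl⟩ := hspan x hx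
    exact ⟨a + b * (t / 2), b, by module⟩
  · simp only [Matrix.toLinAlgEquiv'_apply]
    exact hs _ hmem u v
  · rw [← Module.End.mul_apply, ← map_mul, hMM, map_smul, map_one]
    rfl

variable {K : Subalgebra F (Matrix ι ι F)} {M : Matrix ι ι F}

/-- An element commuting with the generator up to sign normalises. -/
theorem mem_normalizer (hM : M ∈ K) (hspan : ∀ x ∈ K, ∃ a b : F, a • (1 : Matrix ι ι F) + b • M = x)
    {g : GL ι F} {ε : F} (hε : ε * ε = 1) (h : (g : Matrix ι ι F) * M = ε • (M * (g : Matrix ι ι F))) :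
    g ∈ Cfsg.Geo.subalgebraNormalizer K := by
  have key : ∀ {g : GL ι F}, (g : Matrix ι ι F) * M = ε • (M * (g : Matrix ι ι F)) →
      ∀ k ∈ K, (g : Matrix ι ι F) * k * ((g⁻¹ : GL ι F) : Matrix ι ι F) ∈ K := by
    intro g hg k hk
    obtain ⟨a, b, rfl⟩ := hspan k hk
    rw [mul_add, mul_smul_comm, mul_smul_comm, mul_one, hg, add_mul, smul_mul_assoc, smul_mul_assoc, smul_mul_assoc,
      Units.mul_inv, mul_assoc M, Units.mul_inv, mul_one]
    exact K.add_mem (K.smul_mem K.one_mem a) (K.smul_mem (K.smul_mem hM _) _)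
  have hinv : ((g⁻¹ : GL ι F) : Matrix ι ι F) * M = ε • (M * ((g⁻¹ : GL ι F) : Matrix ι ι F)) := by
    have h1 := congrArg (fun A => ((g⁻¹ : GL ι F) : Matrix ι ι F) * A * ((g⁻¹ : GL ι F) : Matrix ι ι F)) h
    simp only [← mul_assoc, Units.inv_mul, one_mul, mul_smul_comm, smul_mul_assoc] at h1
    rw [mul_assoc (((g⁻¹ : GL ι F) : Matrix ι ι F) * M) (g : Matrix ι ι F), Units.mul_inv, mul_one] at h1
    rw [h1, smul_smul, hε, one_smul]
  refine fun k => ⟨key h k, fun hk => ?_⟩
  have h1 := key hinv _ hk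
  rwa [inv_inv, ← mul_assoc, Units.inv_mul_cancel_right, ← mul_assoc, Units.inv_mul, one_mul] at h1

/-- A normalising element commutes with the generator up to sign. -/
theorem sign_of_mem [Nonempty ι] (h2 : (2 : F) ≠ 0) {ν : F} (hν : ¬ IsSquare ν) (hM : M ∈ K)
    (hMM : M * M = ν • (1 : Matrix ι ι F))
    (hspan : ∀ x ∈ K, ∃ a b : F, a • (1 : Matrix ι ι F) + b • M = x)
    {g : GL ι F} (hg : g ∈ Cfsg.Geo.subalgebraNormalizer K) :
    (g : Matrix ι ι F) * M = M * (g : Matrix ι ι F) ∨ (g : Matrix ι ι F) * M = -(M * (g : Matrix ι ι F)) := by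
  obtain ⟨a, b, hab⟩ := hspan _ ((hg M).1 hM)
  have hns : ∀ c : F, M ≠ c • (1 : Matrix ι ι F) := fun c hc => hν ⟨c, by
    have h := hMM
    rw [hc, smul_mul_smul, one_mul] at h
    exact (smul_left_injective F one_ne_zero h).symm⟩
  have hsq : ((g : Matrix ι ι F) * M * ((g⁻¹ : GL ι F) : Matrix ι ι F)) *
      ((g : Matrix ι ι F) * M * ((g⁻¹ : GL ι F) : Matrix ι ι F)) = ν • (1 : Matrix ι ι F) := by
    rw [show ((g : Matrix ι ι F) * M * ((g⁻¹ : GL ι F) : Matrix ι ι F)) *
      ((g : Matrix ι ι F) * M * ((g⁻¹ : GL ι F) : Matrix ι ι F)) =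
      (g : Matrix ι ι F) * (M * M) * ((g⁻¹ : GL ι F) : Matrix ι ι F) by
        simp only [mul_assoc, Units.inv_mul_cancel_left]]
    rw [hMM, mul_smul_comm, mul_one, smul_mul_assoc, Units.mul_inv]
  rw [← hab] at hsq
  simp only [add_mul, mul_add, smul_mul_assoc, mul_smul_comm, one_mul, mul_one, hMM, smul_smul] at hsq
  have h1 : (2 * (a * b)) • M = (ν - a * a - b * b * ν) • (1 : Matrix ι ι F) := by
    linear_combination (norm := module) hsq
  have hab0 : a * b = 0 := by
    by_contra hne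
    refine hns ((2 * (a * b))⁻¹ * (ν - a * a - b * b * ν)) ?_
    rw [← smul_smul, ← h1, inv_smul_smul₀ (mul_ne_zero h2 hne)]
  rw [hab0, mul_zero, zero_smul] at h1
  have h0 := (smul_eq_zero.1 h1.symm).resolve_right one_ne_zero
  rcases mul_eq_zero.1 hab0 with rfl | rfl
  swap
  · exact absurd ⟨a, by linear_combination h0⟩ hν
  have hb : b * b = 1 := mul_right_cancel₀ (fun h : ν = 0 => hν (by rw [h]; exact IsSquare.zero))
    (show b * b * ν = 1 * ν by linear_combination -h0)
  have e : (g : Matrix ι ι F) * M = b • (M * (g : Matrix ι ι F)) := by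
    rw [← smul_mul_assoc, show b • M = (g : Matrix ι ι F) * M * ((g⁻¹ : GL ι F) : Matrix ι ι F) by
      rw [← hab, zero_smul, zero_add], Units.inv_mul_cancel_right]
  rcases mul_self_eq_one_iff.1 hb with rfl | rfl
  · exact Or.inl (by rw [e, one_smul])
  · exact Or.inr (by rw [e, neg_one_smul])

end CfsgLib.Geo.OrthFieldExt
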