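/-
Prime divisors of the index of a normaliser of a self-adjoint quadratic field in `Ω`.
-/
import Cfsg.Agent.Lib.Geo.OrthFieldExt.Type
import Cfsg.Agent.Lib.Geo.OrthFieldExt.Matrices
import Cfsg.Agent.Lib.Geo.Elusive.TwoPrime
import Cfsg.Agent.Lib.Geo.Elusive.OddPrime
import Cfsg.Agent.Lib.Geo.OrthFormDerange

set_option autoImplicit false
set_option maxHeartbeats 800000
set_option linter.unusedSectionVars false
set_option linter.style.haveILetI false

namespace CfsgLib.Geo.OrthFieldExt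

open CfsgLib.Classical CfsgLib.Classical.Quad CfsgLib.Geo.OrthMax CfsgLib.Geo.Elusive
open QuadraticMap (polar polarBilin)
open Module

universe u

variable {F : Type u} [Field F] [Fintype F] {ι : Type} [Fintype ι] [DecidableEq ι]
variable {Q : QuadraticForm F (ι → F)} {ν : F} {r : ℕ} [Fact r.Prime]

/-- Comparison of the orders of the two orthogonal groups. -/
theorem card_compare (hr2 : r ≠ 2) (h2 : (2 : F) ≠ 0) (hQ : (polarBilin Q).Nondegenerate) (hn : 5 ≤ Fintype.card ι)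
    [Fact (∀ a : F, a ^ 2 ≠ ν + 0 * a)]
    {K : Subalgebra F (Matrix ι ι F)} {M : Matrix ι ι F} (hM : M ∈ K)
    (hspan : ∀ x ∈ K, ∃ a b : F, a • (1 : Matrix ι ι F) + b • M = x) (h : SAJ Q (Matrix.toLinAlgEquiv' M) ν)
    (hΩ : r ∣ (Cfsg.Geo.subalgebraNormalizer K).relIndex (Cfsg.Geo.omegaGL (⇑Q))) :
    letI := extModule h
    ∀ R : QuadraticForm (Ext F ν) (ι → F), (∀ v, R v = ⟨polar Q v (Matrix.toLinAlgEquiv' M v) / 2, Q v⟩) →
      ∃ t : ℕ, ¬ r ∣ t ∧ r * Nat.card (OQ R) ∣ t * Nat.card (OQ Q) := by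
  letI := extModule h
  obtain ⟨-, -, htower⟩ := finrank_ext h
  haveI := htower
  intro R hR
  haveI : Finite (ι → F) := inferInstance
  have hex : (∃ c : F, c ≠ 0 ∧ c ≠ 1) ∨ Fintype.card ι ≠ 4 := Or.inr (by omega)
  let φ : OQ R →* Cfsg.isometryGroup F (⇑Q) := (oEquiv Q).symm.toMonoidHom.comp
    { toFun := fun e => (⟨(e : (ι → F) ≃ₗ[Ext F ν] (ι → F)).restrictScalars F, mem_OQ.2 fun v => by
        have h1 := congrArg QuadraticAlgebra.im ((hR _).symm.trans ((OQ.map_apply e v).trans (hR v)))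
        exact h1⟩ : OQ Q)
      map_one' := Subtype.ext (LinearEquiv.ext fun _ => rfl)
      map_mul' := fun _ _ => Subtype.ext (LinearEquiv.ext fun _ => rfl) }
  have hφv : ∀ e v, ((φ e : GL ι F) : Matrix ι ι F).mulVec v = (e : (ι → F) ≃ₗ[Ext F ν] (ι → F)) v := fun e v => by
    rw [← oEquiv_apply]
    show ((oEquiv Q) ((oEquiv Q).symm _) : (ι → F) ≃ₗ[F] (ι → F)) v = _
    rw [MulEquiv.apply_symm_apply]
    rfl
  have hφ : Function.Injective φ := fun e e' he => Subtype.ext (LinearEquiv.ext fun v => by rw [← hφv, ← hφv, he])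
  let ψ : OQ R →* Multiplicative (ZMod 2) × SqClass F := (invHomM hQ hex).comp φ
  have hrange : ¬ r ∣ Nat.card ψ.range := by
    intro hd
    haveI : Finite (OQ R) := Finite.of_injective φ hφ
    haveI : Finite ψ.range := Finite.of_surjective ψ.rangeRestrict ψ.rangeRestrict_surjective
    obtain ⟨y, hy⟩ := exists_prime_orderOf_dvd_card' r hd
    have h1 : y ^ 2 = 1 := Subtype.ext (by
      rw [Subgroup.coe_pow, sq, Subgroup.coe_one]
      exact Prod.ext (Multiplicative.toAdd.injective (by simp [CharTwo.add_self_eq_zero])) (sqClass_mul_self _))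
    have h3 := orderOf_dvd_of_pow_eq_one h1
    rw [hy] at h3
    exact hr2 ((Nat.prime_dvd_prime_iff_eq Fact.out Nat.prime_two).1 h3)
  refine ⟨Nat.card ψ.range, hrange, ?_⟩
  have hker : Nat.card ψ.ker ∣
      Nat.card ((Cfsg.Geo.subalgebraNormalizer K).subgroupOf (Cfsg.Geo.omegaGL (⇑Q))) := by
    let χ : ψ.ker →* ((Cfsg.Geo.subalgebraNormalizer K).subgroupOf (Cfsg.Geo.omegaGL (⇑Q))) :=
      { toFun := fun e => ⟨⟨(φ e.1 : GL ι F), ⟨φ e.1, by
          show φ e.1 ∈ Cfsg.Omega F (⇑Q)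
          rw [← ker_invHomM hQ hex (by omega)]
          exact e.2, rfl⟩⟩, by
          show ((φ e.1 : GL ι F)) ∈ Cfsg.Geo.subalgebraNormalizer K
          refine mem_normalizer hM hspan (ε := 1) (one_mul 1) ?_
          rw [one_smul]
          refine Matrix.toLinAlgEquiv'.injective (LinearMap.ext fun v => ?_)
          have hs : ∀ w, Matrix.toLinAlgEquiv' M w = (⟨0, 1⟩ : Ext F ν) • w := fun w => by
            show _ = (0 : F) • w + (1 : F) • Matrix.toLinAlgEquiv' M w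
            rw [zero_smul, one_smul, zero_add]
          rw [map_mul, map_mul, Module.End.mul_apply, Module.End.mul_apply, Matrix.toLinAlgEquiv'_apply
            ((φ e.1 : GL ι F) : Matrix ι ι F), Matrix.toLinAlgEquiv'_apply ((φ e.1 : GL ι F) : Matrix ι ι F), hφv, hφv,
            hs, hs, LinearEquiv.map_smul]⟩
        map_one' := by ext1; ext1; simp
        map_mul' := fun a b => by ext1; ext1; simp }
    refine Subgroup.card_dvd_of_injective χ fun a b hab => ?_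
    exact Subtype.ext (hφ (Subtype.ext (congrArg (fun z => ((z.1 : Cfsg.Geo.omegaGL (⇑Q)) : GL ι F)) hab)))
  have hsplit : Nat.card (OQ R) = Nat.card ψ.ker * Nat.card ψ.range := by
    rw [← Subgroup.card_mul_index ψ.ker, Subgroup.index_ker]
  have hO : Nat.card (Cfsg.Geo.omegaGL (⇑Q)) ∣ Nat.card (OQ Q) := by
    rw [← card_isometryGroup_eq Q rfl]
    refine Subgroup.card_dvd_of_le ?_
    rintro _ ⟨g, -, rfl⟩
    exact g.2
  obtain ⟨s, hs⟩ := hΩ
  obtain ⟨w, hw⟩ := hO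
  obtain ⟨z, hz⟩ := hker
  have hmul : Nat.card (Cfsg.Geo.omegaGL (⇑Q)) = Nat.card ψ.ker * z * (r * s) := by
    rw [← hz, ← hs, ← Subgroup.card_mul_index ((Cfsg.Geo.subalgebraNormalizer K).subgroupOf (Cfsg.Geo.omegaGL (⇑Q)))]
    rfl
  exact ⟨z * s * w, by rw [hsplit, hw, hmul]; ring⟩

local notation "ordq" => orderOf (Nat.card F : ZMod r)

theorem half_odd {e i : ℕ} (hi : Odd i) (he : e ∣ 2 * i) (he0 : 0 < e) :
    Odd (cstep e / 2) ∧ cstep e ≤ 2 * i := by
  unfold cstep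
  split_ifs with hev
  · obtain ⟨j, rfl⟩ := hev
    rw [← two_mul] at he ⊢
    rw [Nat.mul_div_cancel_left _ two_pos]
    have hj : j ∣ i := Nat.dvd_of_mul_dvd_mul_left two_pos he
    have hi0 : 0 < i := hi.pos
    exact ⟨hi.of_dvd_nat hj, Nat.le_of_dvd (by omega) he⟩
  · have hodd := Nat.not_even_iff_odd.1 hev
    have hei : e ∣ i := (Nat.Coprime.dvd_mul_left (Nat.coprime_two_right.2 hodd)).1 he
    rw [Nat.mul_div_cancel_left _ two_pos]
    have hi0 : 0 < i := by obtain ⟨j, rfl⟩ := hi; omega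
    exact ⟨hodd, Nat.mul_le_mul_left 2 (Nat.le_of_dvd hi0 hei)⟩

/-- A prime dividing the index gives an admissible dimension that is twice an odd number. -/
theorem exists_adm (hr2 : r ≠ 2) (hrF : (r : F) ≠ 0) (h2 : (2 : F) ≠ 0) (hQ : (polarBilin Q).Nondegenerate)
    {d : ℕ} (hd : Fintype.card ι = 2 * d) (hd4 : 4 ≤ d) (hν : ¬ IsSquare ν)
    {K : Subalgebra F (Matrix ι ι F)} {M : Matrix ι ι F} (hM : M ∈ K)
    (hspan : ∀ x ∈ K, ∃ a b : F, a • (1 : Matrix ι ι F) + b • M = x) (h : SAJ Q (Matrix.toLinAlgEquiv' M) ν)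
    (hΩ : r ∣ (Cfsg.Geo.subalgebraNormalizer K).relIndex (Cfsg.Geo.omegaGL (⇑Q))) :
    Odd (cstep ordq / 2) ∧ Adm (cstep ordq) ordq (2 * d) (Plus Q (⊤ : Submodule F (ι → F))) 1 := by
  classical
  haveI : Fact (∀ a : F, a ^ 2 ≠ ν + 0 * a) := fact_ext hν
  letI := extModule h
  haveI := finite_ext ν
  haveI := Fintype.ofFinite (Ext F ν)
  obtain ⟨hdim, hfd, htower⟩ := finrank_ext h
  haveI := hfd
  haveI := htower
  obtain ⟨R, hR, -, hRn⟩ := exists_form h2 h hQ
  obtain ⟨t, ht, hdvd⟩ := card_compare hr2 h2 hQ (by omega) hM hspan h hΩ R hR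
  have hQ2 : Fintype.card (Ext F ν) = Fintype.card F ^ 2 := by
    rw [← Nat.card_eq_fintype_card, Nat.card_congr (QuadraticAlgebra.equivProd ν 0), Nat.card_prod,
      Nat.card_eq_fintype_card, sq]
  have hV : finrank F (ι → F) = 2 * d := by rw [finrank_pi, hd]
  have hVK : finrank (Ext F ν) (ι → F) = d := by omega
  set q := Fintype.card F with hq
  have hrp : r.Prime := Fact.out
  have hq1 : 1 < q := Fintype.one_lt_card
  have hrq : ¬ r ∣ q := fun hh => by
    obtain ⟨p, hp⟩ := CharP.exists F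
    haveI : Fact p.Prime := ⟨CharP.char_is_prime F p⟩
    obtain ⟨n, -, hn⟩ := FiniteField.card F p
    rw [hq, hn] at hh
    exact hrF ((CharP.cast_eq_zero_iff F p r).2 ((Nat.prime_dvd_prime_iff_eq hrp Fact.out).1 (hrp.dvd_of_dvd_pow hh) ▸ dvd_rfl))
  have hr2' : ¬ r ∣ 2 := fun hh => hr2 ((Nat.prime_dvd_prime_iff_eq hrp Nat.prime_two).1 hh)
  have hord : ∀ k, r ∣ q ^ k - 1 → ordq ∣ k := fun k hk => by
    refine orderOf_dvd_of_pow_eq_one ?_
    have h1 := (ZMod.natCast_eq_zero_iff _ r).2 hk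
    rw [Nat.cast_sub (Nat.one_le_pow _ _ (by omega)), Nat.cast_pow, Nat.cast_one, sub_eq_zero] at h1
    rwa [Nat.card_eq_fintype_card]
  have he0 := ord_pos (F := F) (r := r) hrF
  have hodd : ∀ i, Odd i → i < d → r ∣ q ^ (2 * i) - 1 →
      Odd (cstep ordq / 2) ∧ Adm (cstep ordq) ordq (2 * d) (Plus Q (⊤ : Submodule F (ι → F))) 1 := fun i hi hid hri => by
    obtain ⟨h1, h3⟩ := half_odd hi (hord _ hri) he0
    exact ⟨h1, by omega, fun hh => by omega⟩
  have hprod : ∀ n, (∀ l < n, 2 * l + 1 < d) → r ∣ ∏ l ∈ Finset.range n, (q ^ (2 * (2 * l + 1)) - 1) →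
      Odd (cstep ordq / 2) ∧ Adm (cstep ordq) ordq (2 * d) (Plus Q (⊤ : Submodule F (ι → F))) 1 := fun n hn hr' => by
    obtain ⟨l, hl, h'⟩ := (hrp.prime.dvd_finsetProd_iff _).1 hr'
    exact hodd _ ⟨l, rfl⟩ (hn l (Finset.mem_range.1 hl)) h'
  have cancel : ∀ {a b x P : ℕ}, 0 < P → r * (2 * a * P) ∣ t * (2 * q ^ b * (x * P)) → r ∣ x := fun {a b x P} hP h1 => by
    have h3 : r * a ∣ t * q ^ b * x := by
      refine Nat.dvd_of_mul_dvd_mul_right (Nat.mul_pos two_pos hP) ?_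
      exact (dvd_of_eq (by ring)).trans (h1.trans (dvd_of_eq (by ring)))
    have h4 := dvd_trans (dvd_mul_right r a) h3
    exact (hrp.dvd_mul.1 h4).resolve_left fun hh => (hrp.dvd_mul.1 hh).elim ht fun h5 => hrq (hrp.dvd_of_dvd_pow h5)
  have hpos : ∀ s : Finset ℕ, 0 < ∏ i ∈ s, (q ^ (2 * (2 * (i + 1))) - 1) := fun s =>
    Finset.prod_pos fun i _ => Nat.sub_pos_of_lt (one_lt_pow₀ hq1 (by omega))
  obtain ⟨hcp, hcm⟩ := card_OQ_even (K := F) hQ (k := d - 1) (by rw [hV]; omega)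
  rcases Nat.even_or_odd d with ⟨m, hm⟩ | ⟨m, hm⟩
  · obtain ⟨k, rfl⟩ : ∃ k, m = k + 1 := ⟨m - 1, by omega⟩
    obtain rfl : d = 2 * (k + 1) := by omega
    have hsplit : ∏ i ∈ Finset.range (2 * (k + 1) - 1), (q ^ (2 * (i + 1)) - 1) =
        (∏ l ∈ Finset.range (k + 1), (q ^ (2 * (2 * l + 1)) - 1)) *
          ∏ l ∈ Finset.range k, (q ^ (2 * (2 * (l + 1))) - 1) := by
      rw [show 2 * (k + 1) - 1 = 2 * k + 1 by omega, Finset.prod_range_succ,
        CfsgLib.Geo.OrthFormDer.prod_parity (fun j => q ^ (2 * j) - 1), Finset.prod_range_succ]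
      ring
    obtain ⟨hRp, hRm⟩ := card_OQ_even (K := Ext F ν) hRn (k := k) hVK
    have hPR : ∏ i ∈ Finset.range k, (Fintype.card (Ext F ν) ^ (2 * (i + 1)) - 1) =
        ∏ l ∈ Finset.range k, (q ^ (2 * (2 * (l + 1))) - 1) :=
      Finset.prod_congr rfl fun l _ => by rw [hQ2, ← pow_mul]
    have hiff := plus_iff h2 hν hQ h (m := k + 1) (by rw [hV]; omega) R hR
    refine hprod (k + 1) (fun l hl => by omega) ?_
    by_cases hp : Plus Q (⊤ : Submodule F (ι → F))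
    · rw [hRp (hiff.2 hp), hcp hp, hPR, hsplit, hQ2, ← pow_mul, ← pow_mul] at hdvd
      rw [show 2 * (k + 1) - 1 + 1 = 2 * (k + 1) by omega] at hdvd
      refine cancel (P := (q ^ (2 * (k + 1)) - 1) * ∏ l ∈ Finset.range k, (q ^ (2 * (2 * (l + 1))) - 1))
        (Nat.mul_pos (Nat.sub_pos_of_lt (one_lt_pow₀ hq1 (by omega))) (hpos _))
        (a := q ^ (2 * ((k + 1) * k))) (b := 2 * (k + 1) * (2 * (k + 1) - 1)) ?_
      refine (dvd_of_eq (by ring)).trans (hdvd.trans (dvd_of_eq (by ring)))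
    · rw [hRm (fun h' => hp (hiff.1 h')), hcm hp, hPR, hsplit, hQ2, ← pow_mul, ← pow_mul] at hdvd
      rw [show 2 * (k + 1) - 1 + 1 = 2 * (k + 1) by omega] at hdvd
      refine cancel (P := (q ^ (2 * (k + 1)) + 1) * ∏ l ∈ Finset.range k, (q ^ (2 * (2 * (l + 1))) - 1))
        (Nat.mul_pos (Nat.succ_pos _) (hpos _))
        (a := q ^ (2 * ((k + 1) * k))) (b := 2 * (k + 1) * (2 * (k + 1) - 1)) ?_
      refine (dvd_of_eq (by ring)).trans (hdvd.trans (dvd_of_eq (by ring)))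
  · subst hm
    have hsplit : ∏ i ∈ Finset.range (2 * m + 1 - 1), (q ^ (2 * (i + 1)) - 1) =
        (∏ l ∈ Finset.range m, (q ^ (2 * (2 * l + 1)) - 1)) *
          ∏ l ∈ Finset.range m, (q ^ (2 * (2 * (l + 1))) - 1) := by
      rw [show 2 * m + 1 - 1 = 2 * m by omega, CfsgLib.Geo.OrthFormDer.prod_parity (fun j => q ^ (2 * j) - 1)]
    have hRc := card_OQ_odd (two_ne_zero_ext h2) hRn (k := m) hVK
    have hPR : ∏ i ∈ Finset.range m, (Fintype.card (Ext F ν) ^ (2 * (i + 1)) - 1) =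
        ∏ l ∈ Finset.range m, (q ^ (2 * (2 * (l + 1))) - 1) :=
      Finset.prod_congr rfl fun l _ => by rw [hQ2, ← pow_mul]
    have fin : ∀ ε : ℕ, r ∣ ε * ∏ l ∈ Finset.range m, (q ^ (2 * (2 * l + 1)) - 1) →
        (r ∣ ε → Odd (cstep ordq / 2) ∧ Adm (cstep ordq) ordq (2 * (2 * m + 1)) (Plus Q (⊤ : Submodule F (ι → F))) 1) →
        Odd (cstep ordq / 2) ∧ Adm (cstep ordq) ordq (2 * (2 * m + 1)) (Plus Q (⊤ : Submodule F (ι → F))) 1 :=
      fun ε h1 h3 => (hrp.dvd_mul.1 h1).elim h3 (hprod m fun l hl => by omega)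
    by_cases hp : Plus Q (⊤ : Submodule F (ι → F))
    · rw [hRc, hcp hp, hPR, hsplit, hQ2, ← pow_mul] at hdvd
      rw [show 2 * m + 1 - 1 + 1 = 2 * m + 1 by omega] at hdvd
      refine fin (q ^ (2 * m + 1) - 1) (cancel (P := ∏ l ∈ Finset.range m, (q ^ (2 * (2 * (l + 1))) - 1)) (hpos _)
        (a := q ^ (2 * m ^ 2)) (b := (2 * m + 1) * (2 * m + 1 - 1))
        ((dvd_of_eq (by ring)).trans (hdvd.trans (dvd_of_eq (by ring))))) fun hr' => ?_
      have he := hord _ hr'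
      have heodd : Odd ordq := Odd.of_dvd_nat ⟨m, rfl⟩ he
      have hc : cstep ordq = 2 * ordq := if_neg (Nat.not_even_iff_odd.2 heodd)
      have hle := Nat.le_of_dvd (by omega) he
      exact ⟨by rw [hc, Nat.mul_div_cancel_left _ two_pos]; exact heodd, by omega, fun _ => iff_of_true hp (Or.inl heodd)⟩
    · rw [hRc, hcm hp, hPR, hsplit, hQ2, ← pow_mul] at hdvd
      rw [show 2 * m + 1 - 1 + 1 = 2 * m + 1 by omega] at hdvd
      refine fin (q ^ (2 * m + 1) + 1) (cancel (P := ∏ l ∈ Finset.range m, (q ^ (2 * (2 * (l + 1))) - 1)) (hpos _)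
        (a := q ^ (2 * m ^ 2)) (b := (2 * m + 1) * (2 * m + 1 - 1))
        ((dvd_of_eq (by ring)).trans (hdvd.trans (dvd_of_eq (by ring))))) fun hr' => ?_
      have he : ordq ∣ 2 * (2 * m + 1) := hord _ (dvd_trans hr' (by
        rw [mul_comm 2 (2 * m + 1), pow_mul, show (q ^ (2 * m + 1)) ^ 2 - 1 = (q ^ (2 * m + 1)) ^ 2 - 1 ^ 2 by rw [one_pow],
          Nat.sq_sub_sq]
        exact dvd_mul_right _ _))
      have hev : Even ordq := by
        by_contra hne
        have hd' : ordq ∣ 2 * m + 1 :=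
          (Nat.Coprime.dvd_mul_left (Nat.coprime_two_right.2 (Nat.not_even_iff_odd.1 hne))).1 he
        have h1 : (q : ZMod r) ^ (2 * m + 1) = 1 := by
          have := orderOf_dvd_iff_pow_eq_one.1 hd'
          rwa [Nat.card_eq_fintype_card] at this
        have h3 := (ZMod.natCast_eq_zero_iff _ r).2 hr'
        rw [Nat.cast_add, Nat.cast_pow, Nat.cast_one, h1] at h3
        exact hr2' ((ZMod.natCast_eq_zero_iff _ r).1 (by rw [← h3]; norm_num))
      obtain ⟨h1, h3⟩ := half_odd ⟨m, rfl⟩ he he0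
      refine ⟨h1, by omega, fun _ => iff_of_false hp fun hs => ?_⟩
      exact hs.elim (fun ho => (Nat.not_odd_iff_even.2 hev) ho) fun h => by simp at h

end CfsgLib.Geo.OrthFieldExt
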