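/-
Self-adjoint square roots of a non-square compatible with an element of order two modulo scalars.
-/
import Cfsg.Agent.Lib.Geo.OrthFieldExt.Conj
import Cfsg.Agent.Lib.Geo.Elusive.TwoPrime
import Cfsg.Agent.Lib.Geo.Elusive.SingularTwo

set_option autoImplicit false
set_option maxHeartbeats 800000
set_option linter.unusedSectionVars false
set_option linter.style.haveILetI false

namespace CfsgLib.Geo.OrthFieldExt

open CfsgLib.Classical CfsgLib.Classical.Quad CfsgLib.Geo.OrthMax CfsgLib.Geo.Elusive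
open QuadraticMap (polar polarBilin)
open Module

universe u

variable {F : Type u} [Field F] [Finite F]
variable {V : Type u} [AddCommGroup V] [Module F V] [FiniteDimensional F V] {Q : QuadraticForm F V}

/-- A self-adjoint map living on `W`, squaring to `ν` there and commuting with `x` up to the sign `ε`. -/
structure Piece (Q : QuadraticForm F V) (x : Module.End F V) (ν ε : F) (W : Submodule F V)
    (J : Module.End F V) : Prop where
  adj : ∀ u v, polar Q (J u) v = polar Q u (J v)
  range : ∀ v, J v ∈ W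
  kills : ∀ v ∈ OrthMax.perp Q W, J v = 0
  sq : ∀ v ∈ W, J (J v) = ν • v
  comm : ∀ v ∈ W, x (J v) = ε • J (x v)
  inv : ∀ v ∈ W, x v ∈ W

variable {x : Module.End F V} {ν ε : F}

theorem Piece.glue {A B : Submodule F V} {J K : Module.End F V} (hA : Piece Q x ν ε A J) (hB : Piece Q x ν ε B K)
    (horth : ∀ a ∈ A, ∀ b ∈ B, polar Q a b = 0) : Piece Q x ν ε (A ⊔ B) (J + K) := by
  have hJ0 : ∀ b ∈ B, J b = 0 := fun b hb => hA.kills b (mem_perp.2 fun a ha => horth a ha b hb)
  have hK0 : ∀ a ∈ A, K a = 0 := fun a ha => hB.kills a (mem_perp.2 fun b hb => by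
    rw [QuadraticMap.polar_comm]; exact horth a ha b hb)
  refine ⟨fun u v => ?_, fun v => Submodule.add_mem_sup (hA.range v) (hB.range v), fun v hv => ?_, fun v hv => ?_,
    fun v hv => ?_, fun v hv => ?_⟩
  · rw [LinearMap.add_apply, LinearMap.add_apply, polar_add_left', polar_add_right', hA.adj, hB.adj]
  · rw [LinearMap.add_apply, hA.kills v (mem_perp.2 fun a ha => mem_perp.1 hv a (Submodule.mem_sup_left ha)),
      hB.kills v (mem_perp.2 fun b hb => mem_perp.1 hv b (Submodule.mem_sup_right hb)), add_zero]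
  all_goals obtain ⟨a, ha, b, hb, rfl⟩ := Submodule.mem_sup.1 hv
  · simp only [LinearMap.add_apply, map_add, hJ0 b hb, hK0 a ha, hK0 _ (hA.range a), hJ0 _ (hB.range b),
      hA.sq a ha, hB.sq b hb, add_zero, zero_add, map_zero, smul_add]
  · simp only [LinearMap.add_apply, map_add, hJ0 b hb, hK0 a ha, hJ0 _ (hB.inv b hb), hK0 _ (hA.inv a ha),
      hA.comm a ha, hB.comm b hb, add_zero, zero_add, smul_add]
  · rw [map_add]
    exact Submodule.add_mem_sup (hA.inv a ha) (hB.inv b hb)

theorem piece_bot (x : Module.End F V) (ν ε : F) : Piece Q x ν ε ⊥ 0 := by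
  refine ⟨fun u v => ?_, fun v => zero_mem _, fun v _ => rfl, fun v hv => ?_, fun v hv => ?_, fun v hv => ?_⟩
  · simp
  all_goals rw [(Submodule.mem_bot F).1 hv]; simp

/-- Solutions of `s² + k t² = ν`. -/
theorem exists_conic (h2 : (2 : F) ≠ 0) {k : F} (hk : k ≠ 0) (ν : F) : ∃ s t : F, s * s + k * (t * t) = ν := by
  haveI := Fintype.ofFinite F
  have hodd : Fintype.card F % 2 = 1 := FiniteField.odd_card_of_char_ne_two fun hc => h2 (by
    haveI : CharP F 2 := ringChar.eq_iff.1 hc
    exact CharTwo.two_eq_zero)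
  obtain ⟨a, b, hab⟩ := FiniteField.exists_root_sum_quadratic
    (f := Polynomial.C (1 : F) * Polynomial.X ^ 2 - Polynomial.C ν)
    (g := Polynomial.C k * Polynomial.X ^ 2)
    (Polynomial.degree_eq_of_le_of_coeff_ne_zero (by compute_degree!) (by simp))
    (Polynomial.degree_C_mul_X_pow _ hk) hodd
  simp only [Polynomial.eval_sub, Polynomial.eval_mul, Polynomial.eval_C, Polynomial.eval_pow,
    Polynomial.eval_X] at hab
  exact ⟨a, b, by linear_combination hab⟩

/-- The piece on a plane with an orthogonal basis. -/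
theorem exists_plane_piece (h2 : (2 : F) ≠ 0) {v w : V} (hv : Q v ≠ 0) (hw : Q w ≠ 0) (hvw : polar Q v w = 0)
    (hx : (ε = 1 ∧ ∃ c : F, x v = c • v ∧ x w = c • w) ∨ (ε = -1 ∧ x v = w ∧ x w = -v ∧ Q w = Q v)) (ν : F) :
    ∃ J, Piece Q x ν ε (Submodule.span F ({v, w} : Set V)) J := by
  have hcv : polar Q v v ≠ 0 := by rw [polar_self']; exact mul_ne_zero h2 hv
  have hcw : polar Q w w ≠ 0 := by rw [polar_self']; exact mul_ne_zero h2 hw
  obtain ⟨s, t, hst⟩ := exists_conic h2 (mul_ne_zero hcv hcw) ν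
  let J : Module.End F V := ((polarBilin Q).flip v).smulRight ((s / polar Q v v) • v + t • w) +
    ((polarBilin Q).flip w).smulRight (t • v - (s / polar Q w w) • w)
  have hJ : ∀ z, J z = polar Q z v • ((s / polar Q v v) • v + t • w) +
      polar Q z w • (t • v - (s / polar Q w w) • w) := fun z => rfl
  have hwv : polar Q w v = 0 := by rw [QuadraticMap.polar_comm]; exact hvw
  have hJv : J v = s • v + (t * polar Q v v) • w := by
    rw [hJ, hvw, zero_smul, add_zero, smul_add, smul_smul, smul_smul, mul_div_cancel₀ _ hcv, mul_comm (polar Q v v)]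
  have hJw : J w = (t * polar Q w w) • v - s • w := by
    rw [hJ, hwv, zero_smul, zero_add, smul_sub, smul_smul, smul_smul, mul_div_cancel₀ _ hcw, mul_comm (polar Q w w)]
  have hmem : ∀ a b : F, a • v + b • w ∈ Submodule.span F ({v, w} : Set V) := fun a b =>
    Submodule.mem_span_pair.2 ⟨a, b, rfl⟩
  refine ⟨J, fun p q => ?_, fun z => ?_, fun z hz => ?_, fun z hz => ?_, fun z hz => ?_, fun z hz => ?_⟩
  · rw [hJ, hJ]
    simp only [sub_eq_add_neg, ← neg_smul, smul_add, smul_smul, polar_add_left', polar_add_right', polar_smul_left',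
      polar_smul_right', QuadraticMap.polar_comm (⇑Q) v q, QuadraticMap.polar_comm (⇑Q) w q]
    ring
  · rw [hJ]
    refine add_mem (Submodule.smul_mem _ _ (hmem _ _)) (Submodule.smul_mem _ _ ?_)
    rw [sub_eq_add_neg, ← neg_smul]
    exact hmem _ _
  · rw [hJ, QuadraticMap.polar_comm (⇑Q) z v, QuadraticMap.polar_comm (⇑Q) z w,
      mem_perp.1 hz v (Submodule.subset_span (Or.inl rfl)), mem_perp.1 hz w (Submodule.subset_span (Or.inr rfl)),
      zero_smul, zero_smul, add_zero]
  all_goals obtain ⟨a, b, rfl⟩ := Submodule.mem_span_pair.1 hz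
  · simp only [map_add, map_sub, map_smul, hJv, hJw]
    match_scalars
    · linear_combination a * hst
    · linear_combination b * hst
  · rcases hx with ⟨rfl, c, hxv, hxw⟩ | ⟨rfl, hxv, hxw, hvalw⟩
    · simp only [map_add, map_sub, map_smul, hJv, hJw, hxv, hxw]
      match_scalars <;> ring
    · have he : polar Q w w = polar Q v v := by rw [polar_self', polar_self', hvalw]
      simp only [map_add, map_sub, map_smul, map_neg, hJv, hJw, hxv, hxw, he]
      match_scalars <;> ring
  · rcases hx with ⟨-, c, hxv, hxw⟩ | ⟨-, hxv, hxw, -⟩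
    · rw [map_add, map_smul, map_smul, hxv, hxw, smul_smul, smul_smul]
      exact hmem _ _
    · rw [map_add, map_smul, map_smul, hxv, hxw, smul_neg, ← neg_smul, add_comm]
      exact hmem _ _

/-- Pieces exist on the spaces where `x` is a scalar of even dimension or squares to `-1`. -/
theorem exists_piece (h2 : (2 : F) ≠ 0) (hx : ∀ v, Q (x v) = Q v) (ν : F) (n : ℕ) :
    ∀ {W : Submodule F V}, Nondeg Q W → finrank F W = n →
    ((ε = 1 ∧ Even n ∧ ∃ c : F, ∀ v ∈ W, x v = c • v) ∨ (ε = -1 ∧ (∀ v ∈ W, x v ∈ W) ∧ ∀ v, x (x v) = -v)) →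
    ∃ J, Piece Q x ν ε W J := by
  induction n using Nat.strong_induction_on with
  | h n ih =>
  intro W hW hn hm
  rcases Nat.eq_zero_or_pos n with rfl | hpos
  · obtain rfl := Submodule.finrank_eq_zero.1 hn
    exact ⟨0, piece_bot x ν ε⟩
  haveI : Nontrivial W := Module.nontrivial_of_finrank_pos (R := F) (by omega)
  obtain ⟨⟨v, hvW⟩, hv⟩ := exists_apply_ne_zero hW.comp
  change Q v ≠ 0 at hv
  have hv0 : v ≠ 0 := fun h => hv (by rw [h, QuadraticMap.map_zero])
  have hLn : Nondeg Q (Submodule.span F {v}) := fun y hy hall => by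
    obtain ⟨c, rfl⟩ := Submodule.mem_span_singleton.1 hy
    have h := hall v (Submodule.mem_span_singleton_self v)
    rw [polar_smul_left', polar_self'] at h
    rw [(mul_eq_zero.1 h).resolve_right (mul_ne_zero h2 hv), zero_smul]
  obtain ⟨w, hwW, hw, hvw, hmode⟩ : ∃ w ∈ W, Q w ≠ 0 ∧ polar Q v w = 0 ∧
      ((ε = 1 ∧ ∃ c : F, x v = c • v ∧ x w = c • w) ∨ (ε = -1 ∧ x v = w ∧ x w = -v ∧ Q w = Q v)) := by
    rcases hm with ⟨he, hev, c, hc⟩ | ⟨he, hinv, hsq⟩
    · obtain ⟨hX, -, hXd⟩ := nondeg_inf_perp hLn hW ((Submodule.span_singleton_le_iff_mem _ _).2 hvW)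
      rw [finrank_span_singleton hv0] at hXd
      obtain ⟨j, hj⟩ := hev
      haveI : Nontrivial ↥(W ⊓ OrthMax.perp Q (Submodule.span F {v})) :=
        Module.nontrivial_of_finrank_pos (R := F) (by omega)
      obtain ⟨⟨w, hwW, hwp⟩, hw⟩ := exists_apply_ne_zero hX.comp
      exact ⟨w, hwW, hw, mem_perp.1 hwp v (Submodule.mem_span_singleton_self v),
        Or.inl ⟨he, c, hc v hvW, hc w hwW⟩⟩
    · exact ⟨x v, hinv v hvW, by rw [hx]; exact hv, polar_self_J h2 hx hsq v, Or.inr ⟨he, rfl, hsq v, hx v⟩⟩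
  obtain ⟨J₁, hJ₁⟩ := exists_plane_piece h2 hv hw hvw hmode ν
  set P := Submodule.span F ({v, w} : Set V) with hP
  have hPn : Nondeg Q P := fun y hy hall => by
    obtain ⟨a, b, rfl⟩ := Submodule.mem_span_pair.1 hy
    have h1 := hall v (Submodule.subset_span (Or.inl rfl))
    have h3 := hall w (Submodule.subset_span (Or.inr rfl))
    rw [polar_add_left', polar_smul_left', polar_smul_left', polar_self', QuadraticMap.polar_comm (⇑Q) w v, hvw,
      mul_zero, add_zero] at h1
    rw [polar_add_left', polar_smul_left', polar_smul_left', polar_self', hvw, mul_zero, zero_add] at h3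
    rw [(mul_eq_zero.1 h1).resolve_right (mul_ne_zero h2 hv), (mul_eq_zero.1 h3).resolve_right (mul_ne_zero h2 hw)]
    simp
  have hPd : finrank F P = 2 := by
    rw [hP, ← Matrix.range_cons_cons_empty v w ![], finrank_span_eq_card (LinearIndependent.pair_iff.2 fun a b hab => ?_),
      Fintype.card_fin]
    have h1 : polar Q (a • v + b • w) v = 0 := by rw [hab, QuadraticMap.polar_zero_left]
    have h3 : polar Q (a • v + b • w) w = 0 := by rw [hab, QuadraticMap.polar_zero_left]
    rw [polar_add_left', polar_smul_left', polar_smul_left', polar_self', QuadraticMap.polar_comm (⇑Q) w v, hvw,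
      mul_zero, add_zero] at h1
    rw [polar_add_left', polar_smul_left', polar_smul_left', polar_self', hvw, mul_zero, zero_add] at h3
    exact ⟨(mul_eq_zero.1 h1).resolve_right (mul_ne_zero h2 hv), (mul_eq_zero.1 h3).resolve_right (mul_ne_zero h2 hw)⟩
  have hPW : P ≤ W := Submodule.span_le.2 (by rintro y (rfl | rfl); exacts [hvW, hwW])
  obtain ⟨hX, hsup, hXd⟩ := nondeg_inf_perp hPn hW hPW
  obtain ⟨J₂, hJ₂⟩ := ih (finrank F ↥(W ⊓ OrthMax.perp Q P)) (by omega) hX rfl (by
    rcases hm with ⟨he, hev, c, hc⟩ | ⟨he, hinv, hsq⟩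
    · refine Or.inl ⟨he, ?_, c, fun y hy => hc y hy.1⟩
      obtain ⟨j, hj⟩ := hev
      exact ⟨j - 1, by omega⟩
    · exact Or.inr ⟨he, fun y hy => ⟨hinv y hy.1, jperp_invariant hx hsq hJ₁.inv y hy.2⟩, hsq⟩)
  exact ⟨J₁ + J₂, hsup ▸ hJ₁.glue hJ₂ fun a ha b hb => mem_perp.1 hb.2 a ha⟩

end CfsgLib.Geo.OrthFieldExt
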