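/-
Elements of order two modulo scalars normalise a quadratic self-adjoint field.
-/
import Cfsg.Agent.Lib.Geo.OrthFieldExt.Pieces

set_option autoImplicit false
set_option maxHeartbeats 800000
set_option linter.unusedSectionVars false
set_option linter.style.haveILetI false

namespace CfsgLib.Geo.OrthFieldExt

open CfsgLib.Classical CfsgLib.Classical.Quad CfsgLib.Geo.OrthMax CfsgLib.Geo.Elusive
open QuadraticMap (polar polarBilin)
open Module

universe u

variable {F : Type u} [Field F] [Finite F]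
variable {V : Type u} [AddCommGroup V] [Module F V] [FiniteDimensional F V] {Q : QuadraticForm F V}
variable {x : Module.End F V} {ν ε : F}

/-- A compatible square root, an invariant plane, and the behaviour of the reflections of that plane. -/
theorem exists_compatible (h2 : (2 : F) ≠ 0) (hQ : (polarBilin Q).Nondegenerate) (hx : ∀ v, Q (x v) = Q v)
    (hn : 2 ≤ finrank F V)
    (hcase : (x * x = 1 ∧ Even (finrank F (LinearMap.ker (x - 1))) ∧ Even (finrank F (LinearMap.ker (x + 1)))) ∨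
      ∀ v, x (x v) = -v) (ν : F) :
    ∃ (ε δ : F) (J : Module.End F V) (P : Submodule F V), (ε = 1 ∨ ε = -1) ∧ δ * δ = 1 ∧ SAJ Q J ν ∧
      (∀ v, x (J v) = ε • J (x v)) ∧ Nondeg Q P ∧ finrank F P = 2 ∧ (∀ p ∈ P, J p ∈ P) ∧ (∀ p ∈ P, x p ∈ P) ∧
      (∀ y ∈ OrthMax.perp Q P, x y ∈ OrthMax.perp Q P) ∧
      ∀ {w : V} (hw : Q w ≠ 0), w ∈ P → ∀ p ∈ P,
        (refl hw : V ≃ₗ[F] V) (x p) = δ • x ((refl hw : V ≃ₗ[F] V) p) := by
  have htop : ∀ {ε : F} {J : Module.End F V}, Piece Q x ν ε ⊤ J → SAJ Q J ν ∧ ∀ v, x (J v) = ε • J (x v) :=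
    fun h => ⟨⟨h.adj, fun v => h.sq v Submodule.mem_top⟩, fun v => h.comm v Submodule.mem_top⟩
  have perp_inv : ∀ {P : Submodule F V}, (∀ p ∈ P, x p ∈ P) → Nondeg Q P →
      ∀ y ∈ OrthMax.perp Q P, x y ∈ OrthMax.perp Q P := by
    intro P hP _ y hy
    refine mem_perp.2 fun p hp => ?_
    have hinj : Function.Injective (x.restrict hP) := by
      refine (injective_iff_map_eq_zero _).2 fun z hz => Subtype.ext ?_
      have hz' : x (z : V) = 0 := congrArg Subtype.val hz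
      refine hQ.1 _ fun t => ?_
      have h1 : polar Q (x (z : V)) (x t) = polar Q (z : V) t := by simp only [polar, ← map_add, hx]
      rw [hz', QuadraticMap.polar_zero_left] at h1
      exact h1.symm
    obtain ⟨z, hz⟩ := (LinearMap.injective_iff_surjective.1 hinj) ⟨p, hp⟩
    have hz' : x (z : V) = p := congrArg Subtype.val hz
    rw [← hz', show polar Q (x (z : V)) (x y) = polar Q (z : V) y by simp only [polar, ← map_add, hx]]
    exact mem_perp.1 hy _ z.2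
  rcases hcase with ⟨hxx, hep, hem⟩ | hsq
  · obtain ⟨hA, hB, horth, hsup, hA', hB', -⟩ := eigen_split h2 hQ hx hxx
    set A := LinearMap.ker (x - 1)
    set B := LinearMap.ker (x + 1)
    have hfull := finrank_sup_orth hA horth
    rw [hsup, finrank_top] at hfull
    have hAs : ∀ v ∈ A, x v = (1 : F) • v := fun v hv => by rw [hA' v hv, one_smul]
    have hBs : ∀ v ∈ B, x v = (-1 : F) • v := fun v hv => by rw [hB' v hv, neg_one_smul]
    obtain ⟨E, E', c, c', hE, hE', ho, hsupE, hEc, hE'c, hEe, hE'e, hE2⟩ :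
        ∃ (E E' : Submodule F V) (c c' : F), Nondeg Q E ∧ Nondeg Q E' ∧ (∀ a ∈ E, ∀ b ∈ E', polar Q a b = 0) ∧
          E ⊔ E' = ⊤ ∧ (∀ v ∈ E, x v = c • v) ∧ (∀ v ∈ E', x v = c' • v) ∧ Even (finrank F E) ∧
          Even (finrank F E') ∧ 2 ≤ finrank F E := by
      obtain ⟨i, hi⟩ := hep
      obtain ⟨j, hj⟩ := hem
      by_cases h : 2 ≤ finrank F A
      · exact ⟨A, B, _, _, hA, hB, horth, hsup, hAs, hBs, ⟨i, hi⟩, ⟨j, hj⟩, h⟩
      · exact ⟨B, A, _, _, hB, hA, fun a ha b hb => by rw [QuadraticMap.polar_comm]; exact horth b hb a ha,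
          by rw [sup_comm]; exact hsup, hBs, hAs, ⟨j, hj⟩, ⟨i, hi⟩, by omega⟩
    obtain ⟨P, hPE, hP, hPd⟩ := exists_nondeg_sub h2 hE hE2
    obtain ⟨hX, hsupX, hXd⟩ := nondeg_inf_perp hP hE hPE
    obtain ⟨J₁, hJ₁⟩ := exists_piece (ε := (1 : F)) h2 hx ν _ hP rfl
      (Or.inl ⟨rfl, hPd ▸ even_two, c, fun v hv => hEc v (hPE hv)⟩)
    obtain ⟨J₂, hJ₂⟩ := exists_piece (ε := (1 : F)) h2 hx ν _ hX rfl (Or.inl ⟨rfl, (by
      obtain ⟨i, hi⟩ := hEe
      exact ⟨i - 1, by omega⟩), c, fun v hv => hEc v hv.1⟩)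
    obtain ⟨J₃, hJ₃⟩ := exists_piece (ε := (1 : F)) h2 hx ν _ hE' rfl (Or.inl ⟨rfl, hE'e, c', hE'c⟩)
    have h12 := hJ₁.glue hJ₂ fun a ha b hb => mem_perp.1 hb.2 a ha
    rw [hsupX] at h12
    have h123 := h12.glue hJ₃ ho
    rw [hsupE] at h123
    obtain ⟨hJ, hcomm⟩ := htop h123
    have hPinv : ∀ p ∈ P, x p ∈ P := fun p hp => by rw [hEc p (hPE hp)]; exact P.smul_mem _ hp
    refine ⟨1, 1, _, P, Or.inl rfl, one_mul 1, hJ, hcomm, hP, hPd, fun p hp => ?_, hPinv, perp_inv hPinv hP,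
      fun {w} hw hwP p hp => ?_⟩
    · have h2' : J₂ p = 0 := hJ₂.kills p (mem_perp.2 fun a ha => by
        rw [QuadraticMap.polar_comm]; exact mem_perp.1 ha.2 p hp)
      have h3' : J₃ p = 0 := hJ₃.kills p (mem_perp.2 fun b hb => by
        rw [QuadraticMap.polar_comm]; exact ho p (hPE hp) b hb)
      rw [LinearMap.add_apply, LinearMap.add_apply, h2', h3', add_zero, add_zero]
      exact hJ₁.range p
    · have hr : (refl hw : V ≃ₗ[F] V) p ∈ P := by
        rw [refl_apply]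
        exact P.sub_mem hp (P.smul_mem _ hwP)
      rw [hEc p (hPE hp), map_smul, one_smul, hEc _ (hPE hr)]
  · haveI : Nontrivial V := Module.nontrivial_of_finrank_pos (R := F) (by omega)
    obtain ⟨v, hv⟩ := exists_apply_ne_zero hQ
    obtain ⟨hP, hPd, -⟩ := plane_facts h2 hv (hx v) (polar_self_J h2 hx hsq v)
    set P := Submodule.span F {v} ⊔ Submodule.span F {x v} with hPdef
    have hPinv : ∀ p ∈ P, x p ∈ P := fun p hp => by
      obtain ⟨a', ha', b', hb', rfl⟩ := Submodule.mem_sup.1 hp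
      obtain ⟨a, rfl⟩ := Submodule.mem_span_singleton.1 ha'
      obtain ⟨b, rfl⟩ := Submodule.mem_span_singleton.1 hb'
      rw [map_add, map_smul, map_smul, hsq, smul_neg, ← neg_smul, add_comm]
      exact Submodule.add_mem_sup (Submodule.smul_mem _ _ (Submodule.mem_span_singleton_self v))
        (Submodule.smul_mem _ _ (Submodule.mem_span_singleton_self (x v)))
    obtain ⟨J₁, hJ₁⟩ := exists_piece (ε := (-1 : F)) h2 hx ν _ hP rfl (Or.inr ⟨rfl, hPinv, hsq⟩)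
    obtain ⟨J₂, hJ₂⟩ := exists_piece (ε := (-1 : F)) h2 hx ν _ (hP.perp hQ) rfl
      (Or.inr ⟨rfl, perp_inv hPinv hP, hsq⟩)
    have h12 := hJ₁.glue hJ₂ fun a ha b hb => mem_perp.1 hb a ha
    rw [(hP.isCompl hQ).sup_eq_top] at h12
    obtain ⟨hJ, hcomm⟩ := htop h12
    refine ⟨-1, -1, _, P, Or.inr rfl, by ring, hJ, hcomm, hP, hPd, fun p hp => ?_, hPinv, perp_inv hPinv hP,
      fun {w} hw hwP p hp => ?_⟩
    · rw [LinearMap.add_apply, hJ₂.kills p (mem_perp.2 fun b hb => by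
        rw [QuadraticMap.polar_comm]; exact mem_perp.1 hb p hp), add_zero]
      exact hJ₁.range p
    · obtain ⟨hWn, hWd, -⟩ := plane_facts h2 hw (hx w) (polar_self_J h2 hx hsq w)
      have heq : Submodule.span F {w} ⊔ Submodule.span F {x w} = P :=
        Submodule.eq_of_le_of_finrank_eq (sup_le ((Submodule.span_singleton_le_iff_mem _ _).2 hwP)
          ((Submodule.span_singleton_le_iff_mem _ _).2 (hPinv w hwP))) (hWd.trans hPd.symm)
      rw [← heq] at hp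
      obtain ⟨a', ha', b', hb', rfl⟩ := Submodule.mem_sup.1 hp
      obtain ⟨a, rfl⟩ := Submodule.mem_span_singleton.1 ha'
      obtain ⟨b, rfl⟩ := Submodule.mem_span_singleton.1 hb'
      have r1 : (refl hw : V ≃ₗ[F] V) w = -w := by
        rw [refl_apply, polar_self', ← mul_assoc, mul_comm (Q w)⁻¹ 2, mul_assoc, inv_mul_cancel₀ hw, mul_one,
          two_smul]
        abel
      have r2 : (refl hw : V ≃ₗ[F] V) (x w) = x w := by
        rw [refl_apply, QuadraticMap.polar_comm, polar_self_J h2 hx hsq w, mul_zero, zero_smul, sub_zero]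
      simp only [map_add, map_smul, map_neg, hsq, r1, r2]
      module

/-- The classes of `O` modulo `Ω` are met inside a plane by products of at most two reflections. -/
theorem exists_class_in_plane (h2 : (2 : F) ≠ 0) (hQ : (polarBilin Q).Nondegenerate) {P : Submodule F V}
    (hP : Nondeg Q P) (hPd : finrank F P = 2) {δ : F} (hδ : δ * δ = 1) (hPi : ∀ p ∈ P, x p ∈ P)
    (hr : ∀ {w : V} (hw : Q w ≠ 0), w ∈ P → ∀ p ∈ P,
      (refl hw : V ≃ₗ[F] V) (x p) = δ • x ((refl hw : V ≃ₗ[F] V) p))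
    (γ : Multiplicative (ZMod 2) × SqClass F) :
    ∃ (h : OQ Q) (δ' : F), invariants h = γ ∧ δ' * δ' = 1 ∧ (∀ p ∈ P, (h : V ≃ₗ[F] V) p ∈ P) ∧
      (∀ y ∈ OrthMax.perp Q P, (h : V ≃ₗ[F] V) y = y) ∧
      ∀ p ∈ P, (h : V ≃ₗ[F] V) (x p) = δ' • x ((h : V ≃ₗ[F] V) p) := by
  have hR : reflGroup Q = ⊤ := reflGroup_eq_top hQ (hex_of_two_ne_zero h2)
  obtain ⟨γ₁, γ₂⟩ := γ
  obtain ⟨s, hs0, hs⟩ := exists_sqc_eq γ₂
  obtain ⟨⟨w, hwP⟩, hw⟩ := exists_apply_eq hP.comp (by omega) hs0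
  change Q w = s at hw
  have hw0 : Q w ≠ 0 := hw ▸ hs0
  obtain ⟨⟨w₁, hw₁P⟩, hw₁⟩ := exists_apply_eq hP.comp (by omega) (one_ne_zero (α := F))
  change Q w₁ = 1 at hw₁
  have hw₁0 : Q w₁ ≠ 0 := hw₁ ▸ one_ne_zero
  have mem : ∀ {u : V} (hu : Q u ≠ 0), u ∈ P → ∀ p ∈ P, (refl hu : V ≃ₗ[F] V) p ∈ P := fun hu huP p hp => by
    rw [refl_apply]; exact P.sub_mem hp (P.smul_mem _ huP)
  have fix : ∀ {u : V} (hu : Q u ≠ 0), u ∈ P → ∀ y ∈ OrthMax.perp Q P, (refl hu : V ≃ₗ[F] V) y = y :=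
    fun hu huP y hy => by
      rw [refl_apply, QuadraticMap.polar_comm, mem_perp.1 hy _ huP, mul_zero, zero_smul, sub_zero]
  have hone : ∀ y : Multiplicative (ZMod 2), y = 1 ∨ y = Multiplicative.ofAdd 1 := fun y => by
    have : ∀ z : ZMod 2, z = 0 ∨ z = 1 := by decide
    exact (this (Multiplicative.toAdd y)).imp (fun e => congrArg Multiplicative.ofAdd e)
      (fun e => congrArg Multiplicative.ofAdd e)
  rcases hone γ₁ with rfl | rfl
  · refine ⟨refl hw₁0 * refl hw0, δ * δ, ?_, by rw [hδ, one_mul], fun p hp => mem hw₁0 hw₁P _ (mem hw0 hwP p hp),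
      fun y hy => ?_, fun p hp => ?_⟩
    · show invHom hQ hR (refl hw₁0 * refl hw0) = _
      rw [map_mul, invHom_refl hQ hR, invHom_refl hQ hR, hw₁, hw, sqc_one, hs, Prod.mk_mul_mk, one_mul]
      refine Prod.ext ?_ rfl
      show Multiplicative.ofAdd (1 : ZMod 2) * Multiplicative.ofAdd 1 = 1
      rw [← ofAdd_add, show (1 : ZMod 2) + 1 = 0 from by decide, ofAdd_zero]
    · show (refl hw₁0 : V ≃ₗ[F] V) ((refl hw0 : V ≃ₗ[F] V) y) = y
      rw [fix hw0 hwP y hy, fix hw₁0 hw₁P y hy]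
    · show (refl hw₁0 : V ≃ₗ[F] V) ((refl hw0 : V ≃ₗ[F] V) (x p)) =
        (δ * δ) • x ((refl hw₁0 : V ≃ₗ[F] V) ((refl hw0 : V ≃ₗ[F] V) p))
      rw [hr hw0 hwP p hp, map_smul, hr hw₁0 hw₁P _ (mem hw0 hwP p hp), smul_smul]
  · exact ⟨refl hw0, δ, by rw [show invariants (refl hw0) = invHom hQ hR (refl hw0) from rfl, invHom_refl hQ hR, hw, hs],
      hδ, fun p hp => mem hw0 hwP p hp, fun y hy => fix hw0 hwP y hy, fun p hp => hr hw0 hwP p hp⟩

/-- An element of order two modulo scalars has an `Ω`-conjugate normalising the field of `J`. -/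
theorem exists_conj_normal (h2 : (2 : F) ≠ 0) (hν : ¬ IsSquare ν) (hQ : (polarBilin Q).Nondegenerate)
    (hx : ∀ v, Q (x v) = Q v) (hn : 2 ≤ finrank F V)
    (hcase : (x * x = 1 ∧ Even (finrank F (LinearMap.ker (x - 1))) ∧ Even (finrank F (LinearMap.ker (x + 1)))) ∨
      ∀ v, x (x v) = -v) {J : Module.End F V} (hJ : SAJ Q J ν) :
    ∃ (a : OQ Q) (ε : F), invariants a = 1 ∧ (ε = 1 ∨ ε = -1) ∧
      ∀ v, x ((a : V ≃ₗ[F] V) (J v)) = ε • (a : V ≃ₗ[F] V) (J ((a : V ≃ₗ[F] V).symm (x ((a : V ≃ₗ[F] V) v)))) := by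
  obtain ⟨ε, δ, J', P, hε, hδ, hJ', hcomm, hP, hPd, hJP, hxP, hxX, hr⟩ := exists_compatible h2 hQ hx hn hcase ν
  obtain ⟨a₀, ha₀⟩ := exists_conj h2 hν hQ hJ hJ'
  obtain ⟨h, δ', hhi, hδ', hhP, hhX, hhx⟩ := exists_class_in_plane h2 hQ hP hPd hδ hxP hr (invariants a₀)
  have hR : reflGroup Q = ⊤ := reflGroup_eq_top hQ (hex_of_two_ne_zero h2)
  refine ⟨h * a₀, ε, ?_, hε, fun v => ?_⟩
  · rw [invariants_mul hQ hR, hhi]
    exact Prod.ext (Multiplicative.toAdd.injective (by simp [CharTwo.add_self_eq_zero])) (sqClass_mul_self _)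
  set h' : V ≃ₗ[F] V := (h : V ≃ₗ[F] V) with hh'
  set g : V ≃ₗ[F] V := (a₀ : V ≃ₗ[F] V) with hg
  -- the conjugate of `x` by `h`
  have key : ∀ z, x (h' (J' z)) = ε • h' (J' (h'.symm (x (h' z)))) := by
    intro z
    obtain ⟨p, hp, y, hy, rfl⟩ := Submodule.mem_sup.1 (((hP.isCompl hQ).sup_eq_top).ge (Submodule.mem_top (x := z)))
    have ey : h'.symm (x y) = x y := h'.symm_apply_eq.2 (hhX _ (hxX y hy)).symm
    have ep : ∀ t ∈ P, h'.symm (x (h' t)) = δ' • x t := fun t ht => h'.symm_apply_eq.2 (by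
      rw [map_smul, hhx t ht, smul_smul, hδ', one_smul])
    have ex : ∀ t ∈ P, x (h' t) = δ' • h' (x t) := fun t ht => by rw [hhx t ht, smul_smul, hδ', one_smul]
    simp only [map_add, hhX y hy, hhX _ (hJ'.perp_invariant hJP y hy), ep p hp, ey, map_smul,
      ex _ (hJP p hp), hhX _ (hJ'.perp_invariant hJP _ (hxX y hy)), hcomm, smul_smul, smul_add, mul_comm δ' ε]
  show x (h' (g (J v))) = ε • h' (g (J (g.symm (h'.symm (x (h' (g v)))))))
  rw [ha₀, key, ha₀, g.apply_symm_apply]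

end CfsgLib.Geo.OrthFieldExt
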