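/-
Elements of prime order and normalisers of self-adjoint quadratic fields in orthogonal groups.
-/
import Cfsg.Agent.Lib.Geo.OrthFieldExt.Invol
import Cfsg.Agent.Lib.Geo.OrthFieldExt.Count
import Cfsg.Agent.Lib.Geo.Elusive.OddMatrices
import Cfsg.Agent.Lib.Geo.Elusive.UnipotentWitness
import Cfsg.Agent.Lib.Geo.PrimeSympElements

set_option autoImplicit false
set_option maxHeartbeats 800000
set_option linter.unusedSectionVars false
set_option linter.style.haveILetI false

namespace CfsgLib.Geo.OrthFieldExt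

open CfsgLib.Classical CfsgLib.Classical.Quad CfsgLib.Geo.OrthMax CfsgLib.Geo.Elusive CfsgLib.Geo.PrimeAct
open QuadraticMap (polar polarBilin)
open Module

universe u

section Abstract

variable {F : Type u} [Field F] [Finite F] {V : Type u} [AddCommGroup V] [Module F V] [FiniteDimensional F V]
  {J : Module.End F V} {ν : F}

/-- A nondegenerate alternating form with a self-adjoint `J` needs a multiple of four dimensions. -/
theorem four_dvd (hν : ¬ IsSquare ν) (C : LinearMap.BilinForm F V) (halt : ∀ u, C u u = 0)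
    (hadj : ∀ u v, C (J u) v = C u (J v)) (hJ : ∀ u, C u (J u) = 0) (hsq : ∀ v, J (J v) = ν • v) (n : ℕ) :
    ∀ {W : Submodule F V}, finrank F W = n → (∀ u ∈ W, J u ∈ W) →
      (∀ u ∈ W, (∀ v ∈ W, C u v = 0) → u = 0) → 4 ∣ n := by
  induction n using Nat.strong_induction_on with
  | h n ih =>
  intro W hn hWJ hW
  rcases Nat.eq_zero_or_pos n with rfl | hpos
  · exact dvd_zero 4
  obtain ⟨u, hu, hu0⟩ := Submodule.exists_mem_ne_zero_of_ne_bot
    (show W ≠ ⊥ from fun e => by rw [e, finrank_bot] at hn; omega)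
  have hskew : ∀ a b, C b a = -C a b := fun a b => by
    have h := halt (a + b)
    simp only [map_add, LinearMap.add_apply, halt, zero_add, add_zero] at h
    linear_combination h
  have hν0 : ν ≠ 0 := fun h => hν (by rw [h]; exact IsSquare.zero)
  -- a partner of `u`
  let φ : W →ₗ[F] F × F := ((C u).comp W.subtype).prod ((C (J u)).comp W.subtype)
  have hφ : Function.Surjective φ := by
    refine LinearMap.range_eq_top.1 (by_contra fun hne => ?_)
    obtain ⟨g, hg, hle⟩ := Submodule.exists_le_ker_of_lt_top _ (lt_top_iff_ne_top.2 hne)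
    have hz : ∀ z : F × F, g z = z.1 * g (1, 0) + z.2 * g (0, 1) := fun z => by
      conv_lhs => rw [show z = z.1 • ((1 : F), (0 : F)) + z.2 • ((0 : F), (1 : F)) by simp]
      rw [map_add, map_smul, map_smul, smul_eq_mul, smul_eq_mul]
    have h0 : g (1, 0) • u + g (0, 1) • J u = 0 :=
      hW _ (W.add_mem (W.smul_mem _ hu) (W.smul_mem _ (hWJ u hu))) fun v hv => by
        have h := hle (LinearMap.mem_range_self φ ⟨v, hv⟩)
        rw [LinearMap.mem_ker, hz] at h
        simp only [φ, LinearMap.prod_apply, Function.prod_apply, LinearMap.comp_apply, Submodule.subtype_apply] at h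
        simp only [map_add, map_smul, LinearMap.add_apply, LinearMap.smul_apply, smul_eq_mul]
        linear_combination h
    rcases eq_or_ne (g (0, 1)) 0 with hb | hb
    · rw [hb, zero_smul, add_zero, smul_eq_zero] at h0
      refine hg (LinearMap.ext fun z => ?_)
      rw [hz, h0.resolve_right hu0, hb, mul_zero, mul_zero, add_zero]
      rfl
    · have hJu : J u = (-(g (1, 0)) / g (0, 1)) • u := by
        refine smul_right_injective V hb (?_ : g (0, 1) • J u = g (0, 1) • _)
        rw [smul_smul, mul_div_cancel₀ _ hb, neg_smul]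
        exact eq_neg_of_add_eq_zero_right h0
      have h1 := hsq u
      rw [hJu, map_smul, hJu, smul_smul] at h1
      exact hν ⟨_, (smul_left_injective F hu0 h1).symm⟩
  obtain ⟨⟨v, hv⟩, huv⟩ := hφ (1, 0)
  have h1 : C u v = 1 := congrArg Prod.fst huv
  have h0 : C (J u) v = 0 := congrArg Prod.snd huv
  have e1 : C u (J v) = 0 := by rw [← hadj]; exact h0
  have e2 : C (J u) (J v) = ν := by rw [hadj, hsq, map_smul, h1, smul_eq_mul, mul_one]
  have e3 : C (J u) u = 0 := by rw [hadj]; exact hJ u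
  have e4 : C (J v) v = 0 := by rw [hadj]; exact hJ v
  have e5 : C (J u) (J u) = 0 := halt _
  have e6 : C (J v) (J v) = 0 := halt _
  let ψ : W →ₗ[F] Fin 4 → F := LinearMap.pi ![(C.flip u).comp W.subtype, (C.flip (J u)).comp W.subtype,
    (C.flip v).comp W.subtype, (C.flip (J v)).comp W.subtype]
  let pr : (Fin 4 → F) → V := fun c => c 2 • u - c 0 • v + ν⁻¹ • (c 3 • J u - c 1 • J v)
  have hpr : ∀ c, pr c ∈ W := fun c => W.add_mem (W.sub_mem (W.smul_mem _ hu) (W.smul_mem _ hv))
    (W.smul_mem _ (W.sub_mem (W.smul_mem _ (hWJ u hu)) (W.smul_mem _ (hWJ v hv))))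
  have hval : ∀ c, C (pr c) u = c 0 ∧ C (pr c) (J u) = c 1 ∧ C (pr c) v = c 2 ∧ C (pr c) (J v) = c 3 := fun c => by
    refine ⟨?_, ?_, ?_, ?_⟩ <;>
      simp only [pr, map_add, map_sub, map_smul, LinearMap.add_apply, LinearMap.sub_apply, LinearMap.smul_apply,
        smul_eq_mul, halt, hJ, h1, h0, e1, e2, e3, e4, hskew u v, hskew (J u) v, hskew u (J v), hskew (J u) (J v)] <;>
      field_simp <;> ring
  have hψ : Function.Surjective ψ := fun c => ⟨⟨pr c, hpr c⟩, by
    obtain ⟨g0, g1, g2, g3⟩ := hval c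
    funext i
    fin_cases i <;> assumption⟩
  set W' : Submodule F V := (LinearMap.ker ψ).map W.subtype with hW'
  have hrk : finrank F W' + 4 = n := by
    have := LinearMap.finrank_range_add_finrank_ker ψ
    rw [LinearMap.range_eq_top.2 hψ, finrank_top, finrank_fin_fun, hn] at this
    rw [hW', Submodule.finrank_map_subtype_eq]
    omega
  have hmem : ∀ z, z ∈ W' ↔ z ∈ W ∧ C z u = 0 ∧ C z (J u) = 0 ∧ C z v = 0 ∧ C z (J v) = 0 := fun z => by
    constructor
    · rintro ⟨w, hw, rfl⟩
      have hw' : ψ w = 0 := hw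
      exact ⟨w.2, congrFun hw' 0, congrFun hw' 1, congrFun hw' 2, congrFun hw' 3⟩
    · rintro ⟨hz, a0, a1, a2, a3⟩
      refine ⟨⟨z, hz⟩, ?_, rfl⟩
      show ψ ⟨z, hz⟩ = 0
      funext i
      fin_cases i <;> assumption
  have hrest : ∀ z ∈ W', J z ∈ W' := fun z hz => by
    obtain ⟨hzW, a0, a1, a2, a3⟩ := (hmem z).1 hz
    refine (hmem _).2 ⟨hWJ z hzW, by rw [hadj]; exact a1, ?_, by rw [hadj]; exact a3, ?_⟩ <;>
      rw [hadj, hsq, map_smul]
    · rw [a0, smul_zero]
    · rw [a2, smul_zero]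
  have hnd : ∀ z ∈ W', (∀ w ∈ W', C z w = 0) → z = 0 := fun z hz hall => by
    obtain ⟨hzW, a0, a1, a2, a3⟩ := (hmem z).1 hz
    refine hW z hzW fun w hw => ?_
    set c : Fin 4 → F := ψ ⟨w, hw⟩ with hc
    obtain ⟨g0, g1, g2, g3⟩ := hval c
    have hw' : w - pr c ∈ W' := (hmem _).2 ⟨W.sub_mem hw (hpr c),
      by rw [map_sub, LinearMap.sub_apply, g0, sub_eq_zero]; rfl,
      by rw [map_sub, LinearMap.sub_apply, g1, sub_eq_zero]; rfl,
      by rw [map_sub, LinearMap.sub_apply, g2, sub_eq_zero]; rfl,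
      by rw [map_sub, LinearMap.sub_apply, g3, sub_eq_zero]; rfl⟩
    have h := hall _ hw'
    have hp : C z (pr c) = 0 := by
      simp only [pr, map_add, map_sub, map_smul, a0, a1, a2, a3, smul_zero, sub_zero, add_zero]
    rwa [map_sub, hp, sub_zero] at h
  have := ih (finrank F W') (by omega) rfl hrest hnd
  omega

variable {r : ℕ} [Fact r.Prime] {Q : QuadraticForm F V}

/-- The moved space of a commuting isometry of odd order has dimension divisible by four. -/
theorem rest_four_dvd (hr2 : r ≠ 2) (hrF : (r : F) ≠ 0) (hν : ¬ IsSquare ν)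
    (hQ : (polarBilin Q).Nondegenerate) (hJ : SAJ Q J ν) {y : Module.End F V} (hy : ∀ v, Q (y v) = Q v)
    (hyr : y ^ r = 1) (hc : ∀ v, y (J v) = J (y v)) : 4 ∣ finrank F (restSp r y) := by
  obtain ⟨k, hk⟩ := (Fact.out : r.Prime).odd_of_ne_two hr2
  set y' : Module.End F V := y ^ (2 * k) with hy'
  have hyy : ∀ v, y (y' v) = v := fun v => by
    rw [← Module.End.mul_apply, hy', ← pow_succ', ← hk, hyr]; rfl
  have hinv : ∀ u v, polar Q (y' u) v = polar Q u (y v) := fun u v => by
    rw [← polar_iso hy (y' u) v, hyy]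
  have hcJ : ∀ v, y' (J v) = J (y' v) := fun v => by
    have h1 := hc (y' v)
    rw [hyy] at h1
    have := congrArg y' h1
    rw [show ∀ w, y' (y w) = w from fun w => by
      rw [← Module.End.mul_apply, hy', ← pow_succ, ← hk, hyr]; rfl] at this
    exact this.symm
  let C : LinearMap.BilinForm F V := (polarBilin Q).comp (y - y')
  have hC : ∀ u v, C u v = polar Q (y u) v - polar Q (y' u) v := fun u v => by
    show polar Q (y u - y' u) v = _
    rw [QuadraticMap.polar_sub_left]
  refine four_dvd hν C (fun u => ?_) (fun u v => ?_) (fun u => ?_) hJ.sq _ rfl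
    (CfsgLib.Geo.PrimeSp.rest_commute hc) fun u hu hall => ?_
  · rw [hC, hinv, QuadraticMap.polar_comm, sub_self]
  · rw [hC, hC, hc, hcJ, hJ.adj, hJ.adj]
  · rw [hC, hinv, hc, ← hJ.adj, QuadraticMap.polar_comm, sub_self]
  · have hrk : ∀ (j : ℕ), ∀ v ∈ restSp r y, (y ^ j) v ∈ restSp r y := fun j => by
      induction j with
      | zero => exact fun v hv => hv
      | succ j ih => intro v hv; rw [pow_succ', Module.End.mul_apply]; exact restSp_invariant hyr _ (ih v hv)
    have h0 : y u - y' u = 0 := nondeg_rest hQ hyr hy hrF _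
      (Submodule.sub_mem _ (restSp_invariant hyr _ hu) (hrk _ u hu)) fun v hv => hall v hv
    have h1 : y (y u) = u := by rw [sub_eq_zero.1 h0, hyy]
    refine free_of_le_rest hrF hu ?_
    have hj : ∀ j : ℕ, (y ^ (2 * j)) u = u := fun j => by
      induction j with
      | zero => rfl
      | succ j ih => rw [show 2 * (j + 1) = 2 * j + 1 + 1 by ring, pow_succ', pow_succ', Module.End.mul_apply,
          Module.End.mul_apply, ih, h1]
    have h3 : (y ^ r) u = u := by rw [hyr]; rfl
    rw [hk, pow_succ', Module.End.mul_apply, hj] at h3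
    exact h3

end Abstract

variable {F : Type u} [Field F] [Fintype F] {ι : Type} [Fintype ι] [DecidableEq ι]

theorem two_ne_zero_of_odd_card (h : Odd (Fintype.card F)) : (2 : F) ≠ 0 := fun h2 => by
  have : CharP F 2 := CharTwo.of_one_ne_zero_of_two_eq_zero one_ne_zero h2
  have h1 := FiniteField.even_card_iff_char_two.1 (ringChar.eq_iff.2 this)
  exact Nat.not_odd_iff_even.2 (Nat.even_iff.2 h1) h

variable {Q : QuadraticForm F (ι → F)}

/-- Every element of prime order has a conjugate normalising the field exactly for the prime two. -/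
theorem field_iff {p : ℕ} [Fact p.Prime] [CharP F p] (h2 : (2 : F) ≠ 0) (hQ : (polarBilin Q).Nondegenerate)
    {d : ℕ} (hd : Fintype.card ι = 2 * d) (hd4 : 4 ≤ d)
    (K : Subalgebra F (Matrix ι ι F)) (hK : Cfsg.Geo.IsFieldSubalgebra 2 K)
    (hKf : Cfsg.Geo.IsSelfAdjointFor (polar (⇑Q)) K) (r : ℕ) [Fact r.Prime]
    (hΩ : r ∣ (Cfsg.Geo.subalgebraNormalizer K).relIndex (Cfsg.Geo.omegaGL (⇑Q))) :
    (∀ x ∈ Cfsg.Geo.omegaGL (⇑Q), (∃ z : F, ((x ^ r : GL ι F) : Matrix ι ι F) = z • (1 : Matrix ι ι F)) →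
      (∀ z : F, (x : Matrix ι ι F) ≠ z • (1 : Matrix ι ι F)) →
      ∃ g ∈ Cfsg.Geo.omegaGL (⇑Q), g⁻¹ * x * g ∈ Cfsg.Geo.subalgebraNormalizer K) ↔ r = 2 := by
  haveI : Nonempty ι := Fintype.card_pos_iff.1 (by omega)
  haveI : Nontrivial (ι → F) := Module.nontrivial_of_finrank_pos (R := F) (by rw [finrank_pi]; omega)
  obtain ⟨M, ν, hν, hM, hMM, hspan, hJ⟩ := exists_sqrt_gen h2 hK hKf
  set J := Matrix.toLinAlgEquiv' M with hJdef
  have hconj : ∀ (g x : GL ι F) v, Matrix.toLinAlgEquiv' ((g⁻¹ * x * g : GL ι F) : Matrix ι ι F) v =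
      Matrix.toLinAlgEquiv' ((g⁻¹ : GL ι F) : Matrix ι ι F) (Matrix.toLinAlgEquiv' (x : Matrix ι ι F)
        (Matrix.toLinAlgEquiv' (g : Matrix ι ι F) v)) := fun g x v => by
    rw [Units.val_mul, Units.val_mul, map_mul, map_mul]; rfl
  have hcancel : ∀ (g : GL ι F) v, Matrix.toLinAlgEquiv' ((g⁻¹ : GL ι F) : Matrix ι ι F)
      (Matrix.toLinAlgEquiv' (g : Matrix ι ι F) v) = v ∧ Matrix.toLinAlgEquiv' (g : Matrix ι ι F)
      (Matrix.toLinAlgEquiv' ((g⁻¹ : GL ι F) : Matrix ι ι F) v) = v := fun g v => by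
    constructor <;> rw [← Module.End.mul_apply, ← map_mul] <;> simp
  constructor
  · intro hall
    by_contra hr2
    -- a conjugate of an element of odd order normalising the field commutes with the generator
    suffices hder : ∃ x ∈ Cfsg.Geo.omegaGL (⇑Q), x ^ r = 1 ∧ (∀ z : F, (x : Matrix ι ι F) ≠ z • 1) ∧
        ∀ g ∈ Cfsg.Geo.omegaGL (⇑Q), ¬ (∀ v, Matrix.toLinAlgEquiv' ((g⁻¹ * x * g : GL ι F) : Matrix ι ι F) (J v) =
          J (Matrix.toLinAlgEquiv' ((g⁻¹ * x * g : GL ι F) : Matrix ι ι F) v)) by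
      obtain ⟨x, hx, hxr, hns, hno⟩ := hder
      obtain ⟨g, hg, hgm⟩ := hall x hx ⟨1, by rw [hxr, Units.val_one, one_smul]⟩ hns
      refine hno g hg fun v => ?_
      set y := g⁻¹ * x * g with hy
      have hyr : y ^ r = 1 := by
        rw [hy, show g⁻¹ * x * g = g⁻¹ * x * (g⁻¹)⁻¹ by rw [inv_inv], conj_pow, hxr, mul_one, mul_inv_cancel]
      rcases sign_of_mem h2 hν hM hMM hspan hgm with hs | hs
      · rw [← Module.End.mul_apply, hJdef, ← map_mul, hs, map_mul, Module.End.mul_apply]
      · exfalso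
        have hk : ∀ k : ℕ, ((y ^ k : GL ι F) : Matrix ι ι F) * M = (-1 : F) ^ k • (M * ((y ^ k : GL ι F) : Matrix ι ι F)) := by
          intro k
          induction k with
          | zero => simp
          | succ k ih =>
            rw [pow_succ, Units.val_mul, mul_assoc, hs, mul_neg, ← mul_assoc, ih, pow_succ, mul_neg_one, neg_smul,
              smul_mul_assoc, mul_assoc]
        have h1 := hk r
        rw [hyr, Units.val_one, one_mul, mul_one, ((Fact.out : r.Prime).odd_of_ne_two hr2).neg_one_pow,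
          neg_one_smul] at h1
        have h3 : (2 : F) • M = 0 := by
          rw [two_smul]
          nth_rewrite 1 [h1]
          exact neg_add_cancel M
        have hM0 : M = 0 := (smul_eq_zero.1 h3).resolve_left h2
        rw [hM0, mul_zero] at hMM
        exact hν (by rw [(smul_eq_zero.1 hMM.symm).resolve_right one_ne_zero]; exact IsSquare.zero)
    by_cases hrp : r = p
    · -- an Eichler element
      subst hrp
      have hp2 : r ≠ 2 := hr2
      obtain ⟨w, hw0, hw⟩ := CfsgLib.Known.QuadClassify.exists_singular Q (by rw [finrank_pi]; omega)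
      obtain ⟨z, hz⟩ : ∃ z, polar Q w z ≠ 0 := by
        by_contra! h
        exact hw0 (hQ.1 w h)
      obtain ⟨a, hwa, ha⟩ : ∃ a, polar Q w a = 0 ∧ Q a ≠ 0 := by
        by_contra! h
        have hle : 2 * finrank F (LinearMap.ker (polarBilin Q w)) ≤ finrank F (ι → F) :=
          two_mul_finrank_le hQ fun v hv => h v hv
        have h1 := LinearMap.finrank_range_add_finrank_ker (polarBilin Q w)
        have h3 := (Submodule.finrank_le (LinearMap.range (polarBilin Q w))).trans_eq (finrank_self F)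
        rw [finrank_pi] at h1 hle
        omega
      set g₀ : Module.End F (ι → F) := ((eich hQ hw hwa : (ι → F) ≃ₗ[F] (ι → F)) : (ι → F) →ₗ[F] (ι → F)) with hg₀
      have hgv : ∀ v, (g₀ - 1) v = (polar Q v a - Q a * polar Q v w) • w + (-polar Q v w) • a := fun v => by
        show g₀ v - v = _
        rw [hg₀, LinearEquiv.coe_coe, eich_apply]
        abel
      have hww : polar Q w w = 0 := by rw [polar_self', hw, mul_zero]
      have hgw : (g₀ - 1) w = 0 := by rw [hgv, hwa, hww]; simp
      have hga : (g₀ - 1) a = (2 * Q a) • w := by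
        rw [hgv, polar_self', QuadraticMap.polar_comm (⇑Q) a w, hwa]; simp
      have hg2 : ∀ v, (g₀ - 1) ((g₀ - 1) v) = (-polar Q v w * (2 * Q a)) • w := fun v => by
        rw [hgv v, map_add, map_smul, map_smul, hgw, hga, smul_zero, zero_add, smul_smul]
      have hgr : g₀ ^ r = 1 := pow_eq_one_of_cube hp2 (LinearMap.ext fun v => by
        rw [pow_succ', pow_two, Module.End.mul_apply, Module.End.mul_apply, hg2 v, map_smul, hgw, smul_zero]; rfl)
      obtain ⟨x, hx, hxr, hxg⟩ := exists_omega_of_odd hQ (by omega) hp2 g₀ hgr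
        (fun v => OQ.map_apply (eich hQ hw hwa) v)
      refine ⟨x, hx, hxr, fun c hc => ?_, fun g hg hcomm => ?_⟩
      · have hx1 : ∀ v, g₀ v = c • v := fun v => by
          rw [← hxg, hc, map_smul, map_one]; rfl
        have h1 : (g₀ - 1) w = (c - 1) • w := by
          show g₀ w - w = _
          rw [hx1, sub_smul, one_smul]
        rw [hgw] at h1
        have hc1 : c = 1 := sub_eq_zero.1 ((smul_eq_zero.1 h1.symm).resolve_right hw0)
        have h3 : (g₀ - 1) a = 0 := by
          show g₀ a - a = 0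
          rw [hx1, hc1, one_smul, sub_self]
        rw [hga] at h3
        exact hw0 ((smul_eq_zero.1 h3).resolve_left (mul_ne_zero h2 ha))
      · set G := Matrix.toLinAlgEquiv' (g : Matrix ι ι F)
        set G' := Matrix.toLinAlgEquiv' ((g⁻¹ : GL ι F) : Matrix ι ι F)
        set Y := Matrix.toLinAlgEquiv' ((g⁻¹ * x * g : GL ι F) : Matrix ι ι F)
        have hY : ∀ v, (Y - 1) v = G' ((g₀ - 1) (G v)) := fun v => by
          show Y v - v = G' (g₀ (G v) - G v)
          rw [map_sub, (hcancel g v).1, ← hxg]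
          exact congrArg (· - v) (hconj g x v)
        have hY2 : ∀ v, (Y - 1) ((Y - 1) v) = (-polar Q (G v) w * (2 * Q a)) • G' w := fun v => by
          rw [hY, hY, (hcancel g _).2, hg2, map_smul]
        have hYJ : ∀ v, (Y - 1) (J v) = J ((Y - 1) v) := fun v => by
          show Y (J v) - J v = J (Y v - v)
          rw [hcomm, map_sub]
        have h0 := hY2 (J (G' z))
        rw [hYJ, hYJ, hY2, map_smul, (hcancel g z).2] at h0
        have hc0 : -polar Q z w * (2 * Q a) ≠ 0 := mul_ne_zero (neg_ne_zero.2 (by rwa [QuadraticMap.polar_comm]))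
          (mul_ne_zero h2 ha)
        have h1 : ∃ s : F, J (G' w) = s • G' w := ⟨(-polar Q z w * (2 * Q a))⁻¹ * (-polar Q (G (J (G' z))) w * (2 * Q a)),
          by rw [← smul_smul, ← h0, inv_smul_smul₀ hc0]⟩
        obtain ⟨s, hs⟩ := h1
        have hw' : G' w ≠ 0 := fun h => hw0 (by rw [← (hcancel g w).2]; show G (G' w) = 0; rw [h, map_zero])
        have h3 := hJ.sq (G' w)
        rw [hs, map_smul, hs, smul_smul] at h3
        exact hν ⟨s, (smul_left_injective F hw' h3).symm⟩
    -- semisimple elements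
    have hrF : (r : F) ≠ 0 := fun h =>
      hrp ((Nat.prime_dvd_prime_iff_eq Fact.out Fact.out).1 ((CharP.cast_eq_zero_iff F p r).1 h)).symm
    obtain ⟨hodd, hadm⟩ := exists_adm hr2 hrF h2 hQ hd hd4 hν hM hspan hJ hΩ
    have hV : finrank F (ι → F) = 2 * d := by rw [finrank_pi, hd]
    rw [← hV] at hadm
    obtain ⟨g₀, hgr, hgi, hrest, -⟩ := exists_element hr2 hrF hQ le_rfl hadm
    rw [mul_one] at hrest
    have hc0 : cstep (orderOf (Nat.card F : ZMod r)) ≠ 0 := (cstep_pos (F := F) hrF).ne'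
    obtain ⟨x, hx, hxr, hxg⟩ := exists_omega_of_odd hQ (by omega) hr2 g₀ hgr hgi
    refine ⟨x, hx, hxr, fun c hc => ?_, fun g hg hcomm => ?_⟩
    · have hx1 : ∀ v, g₀ v = c • v := fun v => by rw [← hxg, hc, map_smul, map_one]; rfl
      have hc1 : c ^ r = 1 := by
        obtain ⟨v, hv⟩ := exists_ne (0 : ι → F)
        have hk : ∀ k : ℕ, (g₀ ^ k) v = c ^ k • v := fun k => by
          induction k with
          | zero => simp
          | succ k ih => rw [pow_succ', Module.End.mul_apply, ih, map_smul, hx1, smul_smul, ← pow_succ]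
        have h1 := hk r
        rw [hgr, Module.End.one_apply] at h1
        exact smul_left_injective F hv (h1.symm.trans (one_smul F v).symm)
      obtain ⟨v₀, hv₀⟩ := exists_apply_ne_zero hQ
      have hcc : c * c = 1 := by
        have h1 := hgi v₀
        rw [hx1, apply_smul] at h1
        exact mul_right_cancel₀ hv₀ (h1.trans (one_mul _).symm)
      have hc1' : c = 1 := by
        obtain ⟨k, hk⟩ := (Fact.out : r.Prime).odd_of_ne_two hr2
        rw [hk, pow_succ, pow_mul, pow_two, hcc, one_pow, one_mul] at hc1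
        exact hc1
      have hbot : restSp r g₀ = ⊥ := (Submodule.eq_bot_iff _).2 fun v hv =>
        free_of_le_rest hrF hv (by rw [hx1, hc1', one_smul])
      rw [hbot, finrank_bot] at hrest
      exact hc0 hrest.symm
    · set y := g⁻¹ * x * g with hy
      have hyΩ : y ∈ Cfsg.Geo.omegaGL (⇑Q) := mul_mem (mul_mem (inv_mem hg) hx) hg
      have hyr : y ^ r = 1 := by
        rw [hy, show g⁻¹ * x * g = g⁻¹ * x * (g⁻¹)⁻¹ by rw [inv_inv], conj_pow, hxr, mul_one, mul_inv_cancel]
      have h4 := rest_four_dvd (y := Matrix.toLinAlgEquiv' (y : Matrix ι ι F)) hr2 hrF hν hQ hJ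
        (isometry_of_mem_lin hyΩ) (by rw [← map_pow, ← Units.val_pow_eq_pow_val, hyr, Units.val_one, map_one]) hcomm
      have e1 := CfsgLib.Geo.PrimeSp.finrank_rest hyr hrF
      have e3 := CfsgLib.Geo.PrimeSp.finrank_rest hxr hrF
      have e2 : finrank F (fixSp (CfsgLib.Geo.PrimeSp.toEnd y)) = finrank F (fixSp (CfsgLib.Geo.PrimeSp.toEnd x)) :=
        CfsgLib.Geo.PrimeSp.finrank_fixSp_conj g x
      have ey : CfsgLib.Geo.PrimeSp.toEnd y = Matrix.toLinAlgEquiv' (y : Matrix ι ι F) := rfl
      have ex : CfsgLib.Geo.PrimeSp.toEnd x = g₀ := hxg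
      rw [ex] at e2 e3
      rw [ey] at e1 e2
      obtain ⟨j, hj⟩ := cstep_even (orderOf (Nat.card F : ZMod r))
      obtain ⟨i, hi⟩ := hodd
      omega
  · rintro rfl x hx ⟨z, hz⟩ hns
    set f := Matrix.toLinAlgEquiv' (x : Matrix ι ι F) with hf
    have hfi := isometry_of_mem_lin hx
    obtain ⟨a, ε, hai, hε, hcomm⟩ := exists_conj_normal h2 hν hQ hfi (by rw [finrank_pi]; omega) (by
      rcases two_cases hQ (by omega) hx hz with hone | hneg
      · obtain ⟨e, he, -⟩ := minus_space_type h2 hQ (by omega) hx hone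
        obtain ⟨hA, -, horth, hsup, -, -, -⟩ := eigen_split h2 hQ hfi hone
        have h1 := finrank_sup_orth hA horth
        rw [hsup, finrank_top, finrank_pi, hd] at h1
        refine Or.inl ⟨hone, ⟨d - e, ?_⟩, ⟨e, by rw [he]; ring⟩⟩
        omega
      · exact Or.inr hneg) hJ
    obtain ⟨g, hg, hga⟩ := omega_of_invariants h2 hQ (by omega) a hai
    have hg' : ∀ v, Matrix.toLinAlgEquiv' ((g⁻¹ : GL ι F) : Matrix ι ι F) v =
        (a : (ι → F) ≃ₗ[F] (ι → F)).symm v := fun v => by
      refine ((a : (ι → F) ≃ₗ[F] (ι → F)).symm_apply_eq.2 ?_).symm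
      rw [← hga, (hcancel g v).2]
    refine ⟨g, hg, mem_normalizer hM hspan (ε := ε) (by rcases hε with rfl | rfl <;> ring) ?_⟩
    refine Matrix.toLinAlgEquiv'.injective (LinearMap.ext fun v => ?_)
    rw [map_smul, map_mul, map_mul, LinearMap.smul_apply, Module.End.mul_apply, Module.End.mul_apply, hconj, hconj,
      hga, hga, hg', hg', hcomm, map_smul, LinearEquiv.symm_apply_apply]

end CfsgLib.Geo.OrthFieldExt
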